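import Mathlib
import Cfsg.Prelude.Def_Involutions
import Cfsg.Agent.Lib.Involutions.StronglyEmbedded
import Cfsg.Agent.S0225

/-!
# A strongly embedded subgroup with a core containing the odd parts of its involution centralisers

Basic facts for `notes/s3214-gapb-h24.md`.
-/

set_option autoImplicit false
set_option linter.unusedSectionVars false

namespace Cfsg.Agent.SECore

open Subgroup MulAction Cfsg.Agent.Involutions

universe u

variable {G : Type u} [Group G]

/-- `M` is strongly embedded, `W` is normal of odd order in `M`, contains all elements of odd order of `M`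
centralising an involution of `M`, and `M / W` is 2-closed. -/
structure Hyp (M W : Subgroup G) : Prop where
  se : Cfsg.IsStronglyEmbedded M
  le : W ≤ M
  normal : M ≤ normalizer (W : Set G)
  odd : Odd (Nat.card W)
  cent : ∀ t ∈ M, orderOf t = 2 → ∀ y ∈ M, Odd (orderOf y) → Commute y t → y ∈ W
  closed : ∀ a ∈ M, ∀ b ∈ M, (∃ k : ℕ, a ^ (2 ^ k) ∈ W) → (∃ k : ℕ, b ^ (2 ^ k) ∈ W) →
    ∃ k : ℕ, (a * b) ^ (2 ^ k) ∈ W

/-- The coset of `g` is fixed by `x` iff `x` lies in the conjugate of `M` by `g`. -/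
theorem smul_mk_eq_iff {M : Subgroup G} {g x : G} :
    x • (g : G ⧸ M) = (g : G ⧸ M) ↔ g⁻¹ * x * g ∈ M := by
  rw [MulAction.Quotient.smul_coe, smul_eq_mul, QuotientGroup.eq, ← inv_mem_iff]
  simp [mul_assoc]

theorem smul_one_eq_iff {M : Subgroup G} {x : G} :
    x • ((1 : G) : G ⧸ M) = ((1 : G) : G ⧸ M) ↔ x ∈ M := by
  rw [smul_mk_eq_iff, inv_one, one_mul, mul_one]

theorem conj_inv_mem_of_mem_normalizer {H : Subgroup G} {g h : G} (hg : g ∈ normalizer (H : Set G))
    (hh : h ∈ H) : g⁻¹ * h * g ∈ H := by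
  simpa using (mem_normalizer_iff.1 (inv_mem hg) h).1 hh

/-- An involution normalising a subgroup `W` of odd order fixes an element of each invariant coset. -/
theorem exists_fixed_coset [Finite G] {W : Subgroup G} {t y : G} (ht : t * t = 1)
    (htW : t ∈ normalizer (W : Set G)) (hW : Odd (Nat.card W)) (hy : y⁻¹ * t * y * t ∈ W) :
    ∃ c ∈ W, Commute (y * c) t := by
  classical
  have hti : t⁻¹ = t := inv_eq_of_mul_eq_one_right ht
  have hconj : ∀ w ∈ W, t * w * t ∈ W := fun w hw => by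
    simpa [hti] using (mem_normalizer_iff.1 htW w).1 hw
  let f : W → W := fun w =>
    ⟨y⁻¹ * t * y * t * (t * w * t), mul_mem hy (hconj w w.2)⟩
  have hf : ∀ w : W, (f w : G) = y⁻¹ * (t * (y * w) * t) := fun w => by
    show y⁻¹ * t * y * t * (t * (w : G) * t) = _
    simp only [mul_assoc]
    rw [← mul_assoc t t, ht, one_mul]
  have hinv : Function.Involutive f := fun w => by
    apply Subtype.ext
    rw [hf, hf]
    calc y⁻¹ * (t * (y * (y⁻¹ * (t * (y * (w : G)) * t))) * t)
        = y⁻¹ * ((t * t) * (y * w) * (t * t)) := by group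
      _ = w := by rw [ht]; group
  have : Fintype W := Fintype.ofFinite _
  haveI : Fact (Nat.Prime 2) := ⟨Nat.prime_two⟩
  obtain ⟨w, hw⟩ := Equiv.Perm.exists_fixed_point_of_prime (p := 2) (n := 1)
    (σ := hinv.toPerm f) (by
      rw [← Nat.card_eq_fintype_card]
      intro h
      obtain ⟨m, hm⟩ := hW
      omega)
    (Equiv.ext fun w => by simp [pow_two, Equiv.Perm.mul_apply, hinv w])
  refine ⟨w, w.2, ?_⟩
  have h1 : y⁻¹ * (t * (y * (w : G)) * t) = w := by
    rw [← hf]; exact congrArg Subtype.val hw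
  have h2 : t * (y * (w : G)) * t = y * w := by
    calc t * (y * (w : G)) * t = y * (y⁻¹ * (t * (y * w) * t)) := by group
      _ = y * w := by rw [h1]
  show y * w * t = t * (y * w)
  calc y * (w : G) * t = t * (y * w) * t * t := by rw [h2]
    _ = t * (y * w) * (t * t) := by group
    _ = t * (y * w) := by rw [ht, mul_one]

/-- If a power of `x` by a power of two lies in `W` and `x` has odd order, then `x` lies in `W`. -/
theorem mem_of_pow_two_pow [Finite G] {W : Subgroup G} {x : G} {k : ℕ} (hx : Odd (orderOf x))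
    (h : x ^ (2 ^ k) ∈ W) : x ∈ W := by
  obtain ⟨m, hm⟩ := exists_pow_eq_self_of_coprime (n := 2 ^ k) (x := x)
    ((Nat.coprime_two_left.2 hx).pow_left k)
  rw [← hm]
  exact pow_mem h m

theorem odd_orderOf_of_mem {W : Subgroup G} [Finite G] {x : G} (hW : Odd (Nat.card W)) (hx : x ∈ W) :
    Odd (orderOf x) :=
  hW.of_dvd_nat (orderOf_dvd_natCard (⟨x, hx⟩ : W) |> fun h => by rwa [Subgroup.orderOf_mk] at h)

/-- A subgroup of odd order of a group of odd index... : the order of an element is odd if some odd power is in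
a subgroup of odd order. -/
theorem odd_orderOf_of_pow_mem [Finite G] {W : Subgroup G} {x : G} {n : ℕ} (hW : Odd (Nat.card W))
    (hn : Odd n) (h : x ^ n ∈ W) : Odd (orderOf x) :=
  (hn.mul (odd_orderOf_of_mem hW h)).of_dvd_nat
    (orderOf_dvd_of_pow_eq_one (by rw [pow_mul, pow_orderOf_eq_one]))

/-- Powers of products with an element of a normalised subgroup. -/
theorem pow_mul_mem {W : Subgroup G} {y c : G} (hy : y ∈ normalizer (W : Set G)) (hc : c ∈ W) :
    ∀ n : ℕ, (y ^ n)⁻¹ * (y * c) ^ n ∈ W := by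
  intro n
  induction n with
  | zero => simp
  | succ n ih =>
    rw [show (y ^ (n + 1))⁻¹ * (y * c) ^ (n + 1)
        = y⁻¹ * ((y ^ n)⁻¹ * (y * c) ^ n) * y * c by rw [pow_succ, pow_succ]; group]
    exact mul_mem (conj_inv_mem_of_mem_normalizer hy ih) hc

variable [Finite G]

/-- Decomposition of an element of odd order subgroup by an involution. -/
theorem exists_square_root {Y : Subgroup G} (hY : Odd (Nat.card Y)) :
    ∃ m : ℕ, ∀ y ∈ Y, (y ^ m) * (y ^ m) = y := by
  obtain ⟨j, hj⟩ := hY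
  refine ⟨j + 1, fun y hy => ?_⟩
  have h1 : y ^ (2 * j + 1) = 1 := by
    rw [← hj]
    have h2 := pow_card_eq_one' (x := (⟨y, hy⟩ : Y))
    simpa only [SubmonoidClass.coe_pow, OneMemClass.coe_one] using congrArg Subtype.val h2
  rw [← pow_add, show j + 1 + (j + 1) = (2 * j + 1) + 1 by omega, pow_succ, h1, one_mul]

/-- A subgroup of odd order normalised by a four group is generated by the centralisers of its involutions. -/
theorem le_of_four {Y C : Subgroup G} (hY : Odd (Nat.card Y)) {a b : G} (ha : a * a = 1)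
    (hb : b * b = 1) (hab : Commute a b) (haY : a ∈ normalizer (Y : Set G))
    (hbY : b ∈ normalizer (Y : Set G))
    (h : ∀ y ∈ Y, (Commute y a ∨ Commute y b ∨ Commute y (a * b)) → y ∈ C) : Y ≤ C := by
  obtain ⟨m, hm⟩ := exists_square_root hY
  have hai : a⁻¹ = a := inv_eq_of_mul_eq_one_right ha
  have hbi : b⁻¹ = b := inv_eq_of_mul_eq_one_right hb
  have hca : ∀ y ∈ Y, a * y * a ∈ Y := fun y hy => by
    simpa [hai] using (mem_normalizer_iff.1 haY y).1 hy
  have hcb : ∀ y ∈ Y, b * y * b ∈ Y := fun y hy => by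
    simpa [hbi] using (mem_normalizer_iff.1 hbY y).1 hy
  have inj : ∀ x ∈ Y, ∀ y ∈ Y, x * x = y * y → x = y := fun x hx y hy e => by
    have hx2 : (x * x) ^ m = x := by
      rw [← pow_two, ← pow_mul, mul_comm, pow_mul, pow_two]
      exact hm x hx
    have hy2 : (y * y) ^ m = y := by
      rw [← pow_two, ← pow_mul, mul_comm, pow_mul, pow_two]
      exact hm y hy
    rw [← hx2, ← hy2, e]
  have conj_pow : ∀ (t : G), t * t = 1 → ∀ (y : G) (n : ℕ), t * y ^ n * t = (t * y * t) ^ n := by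
    intro t ht y n
    have hti : t⁻¹ = t := inv_eq_of_mul_eq_one_right ht
    have := (conj_pow (i := n) (a := t) (b := y)).symm
    rwa [hti] at this
  have conj_mul : ∀ (t : G), t * t = 1 → ∀ x y : G, t * (x * y) * t = (t * x * t) * (t * y * t) := by
    intro t ht x y
    calc t * (x * y) * t = t * x * 1 * y * t := by group
      _ = t * x * (t * t) * y * t := by rw [ht]
      _ = _ := by group
  have comm_of_fix : ∀ (t : G), t * t = 1 → ∀ x : G, t * x * t = x → Commute x t := by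
    intro t ht x e
    show x * t = t * x
    calc x * t = t * x * t * t := by rw [e]
      _ = t * x * (t * t) := by group
      _ = t * x := by rw [ht, mul_one]
  -- elements inverted by `a`
  have hinv : ∀ i ∈ Y, a * i * a = i⁻¹ → i ∈ C := by
    intro i hi hia
    set k := b * i * b with hk
    have hkY : k ∈ Y := hcb i hi
    have hka : a * k * a = k⁻¹ := by
      calc a * (b * i * b) * a = (a * b) * i * (b * a) := by group
        _ = (b * a) * i * (a * b) := by rw [hab.eq]
        _ = b * (a * i * a) * b⁻¹ := by rw [hbi]; group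
        _ = (b * i * b⁻¹)⁻¹ := by rw [hia]; group
        _ = k⁻¹ := by rw [hk, hbi]
    set n := k ^ m
    have hnY : n ∈ Y := pow_mem hkY m
    have hnn : n * n = k := hm k hkY
    set s := (n * i * n) ^ m
    have hniY : n * i * n ∈ Y := mul_mem (mul_mem hnY hi) hnY
    have hss : s * s = n * i * n := hm _ hniY
    set X := n⁻¹ * s * n⁻¹
    have hXY : X ∈ Y := mul_mem (mul_mem (inv_mem hnY) (pow_mem hniY m)) (inv_mem hnY)
    have hX : X * k * X = i := by
      calc n⁻¹ * s * n⁻¹ * k * (n⁻¹ * s * n⁻¹) = n⁻¹ * s * n⁻¹ * (n * n) * (n⁻¹ * s * n⁻¹) := by rw [hnn]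
        _ = n⁻¹ * (s * s) * n⁻¹ := by group
        _ = i := by rw [hss]; group
    have huniq : ∀ Z ∈ Y, Z * k * Z = i → Z = X := by
      intro Z hZ e
      have e1 : n * Z * n = s := by
        refine inj _ (mul_mem (mul_mem hnY hZ) hnY) _ (pow_mem hniY m) ?_
        rw [hss]
        calc n * Z * n * (n * Z * n) = n * (Z * (n * n) * Z) * n := by group
          _ = n * i * n := by rw [hnn, e]
      calc Z = n⁻¹ * (n * Z * n) * n⁻¹ := by group
        _ = X := by rw [e1]
    have hXb : b * X * b = X⁻¹ := by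
      have e : (b * X * b) * i * (b * X * b) = k := by
        calc (b * X * b) * i * (b * X * b) = b * (X * k * X) * b := by
              rw [hk]; group
          _ = k := by rw [hX]
      have h1 : (b * X * b)⁻¹ = X := by
        refine huniq _ (inv_mem (hcb X hXY)) ?_
        conv_lhs => rw [← e]
        group
      exact inv_eq_iff_eq_inv.1 h1
    have hXa : a * X * a = X⁻¹ := by
      have e : (a * X * a) * k⁻¹ * (a * X * a) = i⁻¹ := by
        rw [← hka, ← hia, ← conj_mul a ha, ← conj_mul a ha, hX]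
      have h1 : (a * X * a)⁻¹ = X := by
        refine huniq _ (inv_mem (hca X hXY)) ?_
        rw [← inv_inj]
        rw [← e]
        group
      exact inv_eq_iff_eq_inv.1 h1
    set j := X ^ m
    have hjY : j ∈ Y := pow_mem hXY m
    have hjj : j * j = X := hm X hXY
    have hja : a * j * a = j⁻¹ := by rw [conj_pow a ha, hXa, inv_pow]
    have hjb : b * j * b = j⁻¹ := by rw [conj_pow b hb, hXb, inv_pow]
    have hbji : b * j⁻¹ * b = j := by
      calc b * j⁻¹ * b = b⁻¹ * j⁻¹ * b⁻¹ := by rw [hbi]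
        _ = (b * j * b)⁻¹ := by group
        _ = j := by rw [hjb, inv_inv]
    set c := j⁻¹ * i * j⁻¹
    have hcY : c ∈ Y := mul_mem (mul_mem (inv_mem hjY) hi) (inv_mem hjY)
    have hcC : c ∈ C := by
      refine h c hcY (Or.inr (Or.inl (comm_of_fix b hb c ?_)))
      rw [conj_mul b hb, conj_mul b hb, hbji, ← hk]
      calc j * k * j = j⁻¹ * (j * j * k * (j * j)) * j⁻¹ := by group
        _ = c := by rw [hjj, hX]
    have hjC : j ∈ C := by
      refine h j hjY (Or.inr (Or.inr ?_))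
      show j * (a * b) = a * b * j
      have e1 : (a * b) * j * (b * a) = j := by
        calc (a * b) * j * (b * a) = a * (b * j * b) * a := by group
          _ = a⁻¹ * j⁻¹ * a⁻¹ := by rw [hjb, hai]
          _ = (a * j * a)⁻¹ := by group
          _ = j := by rw [hja, inv_inv]
      calc j * (a * b) = (a * b) * j * (b * a) * (a * b) := by rw [e1]
        _ = (a * b) * j * (b * (a * a) * b) := by group
        _ = a * b * j := by rw [ha, mul_one, hb, mul_one]
    have : i = j * c * j := by simp only [c]; group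
    rw [this]
    exact mul_mem (mul_mem hjC hcC) hjC
  intro y hy
  set q := y⁻¹ * (a * y * a) with hq
  have hqY : q ∈ Y := mul_mem (inv_mem hy) (hca y hy)
  have hqa : a * q * a = q⁻¹ := by
    rw [hq, conj_mul a ha]
    calc a * y⁻¹ * a * (a * (a * y * a) * a) = a * y⁻¹ * a * ((a * a) * y * (a * a)) := by group
      _ = a * y⁻¹ * a⁻¹ * y := by rw [ha, hai]; group
      _ = a⁻¹ * y⁻¹ * a⁻¹ * y := by rw [hai]
      _ = _ := by group
  set r := q ^ m
  have hrY : r ∈ Y := pow_mem hqY m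
  have hrr : r * r = q := hm q hqY
  have hra : a * r * a = r⁻¹ := by rw [conj_pow a ha, hqa, inv_pow]
  have hr : r ∈ C := hinv r hrY hra
  have hc : y * r ∈ C := by
    refine h _ (mul_mem hy hrY) (Or.inl (comm_of_fix a ha _ ?_))
    rw [conj_mul a ha, hra]
    calc a * y * a * r⁻¹ = y * (y⁻¹ * (a * y * a)) * r⁻¹ := by group
      _ = y * (r * r) * r⁻¹ := by rw [← hq, hrr]
      _ = y * r := by group
  have : y = y * r * r⁻¹ := by group
  rw [this]
  exact mul_mem hc (inv_mem hr)

/-- A group of rank one: no two distinct commuting involutions. -/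
def RankOne (N : Subgroup G) : Prop :=
  ∀ a ∈ N, ∀ b ∈ N, orderOf a = 2 → orderOf b = 2 → Commute a b → a = b

/-- In a group of rank one all involutions lie in one coset of the odd core. -/
theorem RankOne.one_coset {N : Subgroup G} (h : RankOne N) {i : G} (hi : i ∈ N) (hi2 : orderOf i = 2) :
    ∃ z ∈ N, orderOf z = 2 ∧ ∃ O : Subgroup G, O ≤ N ∧ Odd (Nat.card O) ∧ N ≤ normalizer (O : Set G) ∧
      ∀ j ∈ N, orderOf j = 2 → j * z ∈ O := by
  have heven : Even (Nat.card N) := by
    rw [even_iff_two_dvd]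
    have h1 := orderOf_dvd_natCard (⟨i, hi⟩ : N)
    rwa [Subgroup.orderOf_mk, hi2] at h1
  have hK : ∀ E : Subgroup N, ¬ IsKleinFour E := by
    intro E hE
    have h4 := hE.card_four
    have : Fintype E := Fintype.ofFinite _
    rw [Nat.card_eq_fintype_card] at h4
    obtain ⟨a, ha⟩ := Fintype.exists_ne_of_one_lt_card (by omega : 1 < Fintype.card E) 1
    obtain ⟨b, hb1, hba⟩ : ∃ b : E, b ≠ 1 ∧ b ≠ a := by
      classical
      by_contra hcon
      push Not at hcon
      have hsub : (Finset.univ : Finset E) ⊆ {1, a} := fun b _ => by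
        by_cases e : b = 1
        · simp [e]
        · simp [hcon b e]
      have := (Finset.card_le_card hsub).trans (Finset.card_le_two)
      rw [Finset.card_univ] at this
      omega
    have hsq : ∀ x : E, x * x = 1 := fun x => by
      have := Monoid.pow_exponent_eq_one x
      rwa [hE.exponent_two, pow_two] at this
    have ord : ∀ x : E, x ≠ 1 → orderOf ((x : N) : G) = 2 := fun x hx => by
      rw [Basic.orderOf_two_iff]
      refine ⟨congrArg (fun z : E => ((z : N) : G)) (hsq x), fun e => hx ?_⟩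
      exact Subtype.ext (Subtype.ext e)
    have hcomm : a * b = b * a := by
      have e1 := hsq (a * b)
      calc a * b = (a * b)⁻¹ := eq_inv_of_mul_eq_one_left e1
        _ = b⁻¹ * a⁻¹ := mul_inv_rev a b
        _ = b * a := by
          rw [inv_eq_of_mul_eq_one_right (hsq a), inv_eq_of_mul_eq_one_right (hsq b)]
    refine hba (Subtype.ext (Subtype.ext (h _ (b : N).2 _ (a : N).2 (ord b hb1) (ord a ha) ?_)))
    exact (congrArg (fun z : E => ((z : N) : G)) hcomm).symm
  obtain ⟨z, hz, O, hOn, hOodd, hO⟩ := Cfsg.Agent.S0225.result (G := N) heven hK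
  rw [← Subgroup.orderOf_coe] at hz
  refine ⟨z, z.2, hz, O.map N.subtype, map_subtype_le _, ?_, ?_, ?_⟩
  · rwa [Nat.card_congr (O.equivMapOfInjective _ N.subtype_injective).toEquiv.symm]
  · intro g hg
    rw [mem_normalizer_iff]
    intro x
    constructor
    · rintro ⟨x', hx', rfl⟩
      exact ⟨⟨g, hg⟩ * x' * ⟨g, hg⟩⁻¹, hOn.conj_mem x' hx' _, rfl⟩
    · rintro ⟨x', hx', e⟩
      refine ⟨⟨g, hg⟩⁻¹ * x' * ⟨g, hg⟩, ?_, ?_⟩
      · simpa using hOn.conj_mem x' hx' (⟨g, hg⟩⁻¹ : N)
      · show g⁻¹ * (x' : G) * g = x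
        rw [show (x' : G) = g * x * g⁻¹ from e]
        group
  · intro j hj hj2
    have hodd : Odd (orderOf (j * (z : G))) := by
      by_contra hcon
      rw [Nat.not_odd_iff_even] at hcon
      obtain ⟨hm, hmj, hmz⟩ := Basic.middle_involution hj2 hz hcon
      have hmN := pow_mem (mul_mem hj z.2) (orderOf (j * (z : G)) / 2)
      have e1 := h _ hmN _ hj hm hj2 hmj
      have e2 := h _ hmN _ z.2 hm hz hmz
      rw [← e1.symm.trans e2, Basic.inv_sq_one hj2, orderOf_one] at hcon
      obtain ⟨c, hc⟩ := hcon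
      omega
    obtain ⟨d, hd, hdj⟩ := Basic.exists_conj_of_odd hj2 hz hodd
    have hdN : d ∈ N := zpowers_le.2 (mul_mem hj z.2) hd
    -- `j * z` is a commutator with `z`
    refine ⟨((⟨d, hdN⟩ : N)⁻¹ * z * ⟨d, hdN⟩) * z, ?_, ?_⟩
    · have h1 := hO (⟨d, hdN⟩ : N)⁻¹
      have h2 := hOn.conj_mem _ (inv_mem h1) z
      rw [show z * (z * (⟨d, hdN⟩ : N)⁻¹ * z⁻¹ * ((⟨d, hdN⟩ : N)⁻¹)⁻¹)⁻¹ * z⁻¹ =
        z * (⟨d, hdN⟩ : N)⁻¹ * z * ⟨d, hdN⟩ * z⁻¹ * z⁻¹ by group] at h2
      have hzz : z * z = 1 := Subtype.ext (Basic.inv_sq_one hz)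
      have hzi : z⁻¹ = z := inv_eq_of_mul_eq_one_right hzz
      rw [hzi] at h2
      have h3 := hOn.conj_mem _ h2 z
      rw [show z * (z * (⟨d, hdN⟩ : N)⁻¹ * z * ⟨d, hdN⟩ * z * z) * z⁻¹ =
        z * z * ((⟨d, hdN⟩ : N)⁻¹ * z * ⟨d, hdN⟩) * z * (z * z⁻¹) by group, hzz, one_mul, mul_inv_cancel,
        mul_one] at h3
      exact h3
    · show d⁻¹ * (z : G) * d * (z : G) = j * (z : G)
      rw [← hdj]
      group

/-- A product of three involutions of a group of rank one does not have odd order. -/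
theorem RankOne.not_odd_mul_three {N : Subgroup G} (h : RankOne N) {i j k : G} (hi : i ∈ N) (hj : j ∈ N)
    (hk : k ∈ N) (hi2 : orderOf i = 2) (hj2 : orderOf j = 2) (hk2 : orderOf k = 2) :
    ¬ Odd (orderOf (i * j * k)) := by
  obtain ⟨z, hzN, hz, O, -, hO, hON, hcos⟩ := h.one_coset hi hi2
  have hzz := Basic.inv_sq_one hz
  have hzi := Basic.inv_eq hz
  have hcz : ∀ x ∈ O, z * x * z ∈ O := fun x hx => by
    simpa [hzi] using (mem_normalizer_iff.1 (hON hzN) x).1 hx
  set o := (i * z) * (z * (j * z) * z) * (k * z) with ho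
  have hoO : o ∈ O := mul_mem (mul_mem (hcos i hi hi2) (hcz _ (hcos j hj hj2))) (hcos k hk hk2)
  have e : i * j * k = o * z := by
    rw [ho]
    calc i * j * k = i * (z * z) * j * (z * z) * k * (z * z) := by rw [hzz]; group
      _ = _ := by group
  intro hodd
  rw [e] at hodd
  obtain ⟨n, hn⟩ := hodd
  have hev : ∀ t : ℕ, ((o * z) * (o * z)) ^ t ∈ O := fun t => by
    refine pow_mem ?_ t
    rw [show o * z * (o * z) = o * (z * o * z) by group]
    exact mul_mem hoO (hcz o hoO)
  have h1 := pow_orderOf_eq_one (o * z)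
  rw [hn, pow_succ, pow_mul, pow_two] at h1
  have h2 : o * z ∈ O := by
    rw [eq_inv_of_mul_eq_one_right h1]
    exact inv_mem (hev n)
  have h3 : z ∈ O := by simpa [← mul_assoc] using mul_mem (inv_mem hoO) h2
  have h4 := odd_orderOf_of_mem hO h3
  rw [hz] at h4
  obtain ⟨c, hc⟩ := h4
  omega

/-- A group of rank one moves no triangle whose sides are reversed by its involutions. -/
theorem RankOne.no_triangle {X : Type*} [MulAction G X] {N : Subgroup G} (h : RankOne N) (Φ : Set X)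
    (hstab : ∀ x ∈ Φ, ∀ t ∈ N, orderOf t = 2 → t • x ≠ x)
    (hswap : ∀ x ∈ Φ, ∀ y ∈ Φ, x ≠ y → ∃ u ∈ N, orderOf u = 2 ∧ u • x = y)
    {a b c : X} (ha : a ∈ Φ) (hb : b ∈ Φ) (hc : c ∈ Φ) (hab : a ≠ b) (hbc : b ≠ c) : a = c := by
  by_contra hac
  obtain ⟨i, hi, hi2, hia⟩ := hswap c hc a ha (Ne.symm hac)
  obtain ⟨j, hj, hj2, hjb⟩ := hswap b hb c hc hbc
  obtain ⟨k, hk, hk2, hkc⟩ := hswap a ha b hb hab
  refine h.not_odd_mul_three hi hj hk hi2 hj2 hk2 ?_
  by_contra hodd
  rw [Nat.not_odd_iff_even] at hodd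
  set e := i * j * k with he
  have hfix : e • a = a := by rw [he, mul_smul, mul_smul, hkc, hjb, hia]
  obtain ⟨m, hm⟩ := hodd
  have hpos := orderOf_pos e
  have h2 : orderOf (e ^ m) = 2 := by
    rw [orderOf_pow' _ (by omega), hm, Nat.gcd_eq_right (⟨2, by omega⟩ : m ∣ m + m)]
    rw [show m + m = 2 * m by omega, Nat.mul_div_cancel _ (by omega)]
  refine hstab a ha _ (pow_mem (mul_mem (mul_mem hi hj) hk) m) h2 ?_
  exact mem_stabilizer_iff.1 (pow_mem (mem_stabilizer_iff.2 hfix) m)

namespace Hyp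

variable {M W : Subgroup G}

theorem conjW_mem (h : Hyp M W) {m x : G} (hm : m ∈ M) (hx : x ∈ W) : m * x * m⁻¹ ∈ W :=
  (mem_normalizer_iff.1 (h.normal hm) x).1 hx

/-- An element of `M` of odd order moved by an involution of `M` only within `W` lies in `W`. -/
theorem mem_of_comm_mem (h : Hyp M W) {t y : G} (ht : t ∈ M) (ht2 : orderOf t = 2) (hy : y ∈ M)
    (hodd : Odd (orderOf y)) (hc : y⁻¹ * t * y * t ∈ W) : y ∈ W := by
  obtain ⟨c, hc', hcomm⟩ := exists_fixed_coset (Basic.inv_sq_one ht2) (h.normal ht) h.odd hc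
  have h1 := pow_mul_mem (h.normal hy) hc' (orderOf y)
  rw [pow_orderOf_eq_one, inv_one, one_mul] at h1
  have h2 := h.cent t ht ht2 _ (mul_mem hy (h.le hc')) (odd_orderOf_of_pow_mem h.odd hodd h1) hcomm
  simpa using mul_mem h2 (inv_mem hc')

/-- A subgroup of `M` of odd order normalised by an involution of `M` lies in `W`. -/
theorem le_of_normalised (h : Hyp M W) {t : G} (ht : t ∈ M) (ht2 : orderOf t = 2) {Y : Subgroup G}
    (hY : Y ≤ M) (hodd : Odd (Nat.card Y)) (htY : t ∈ normalizer (Y : Set G)) : Y ≤ W := by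
  intro y hy
  refine h.mem_of_comm_mem ht ht2 (hY hy) (odd_orderOf_of_mem hodd hy) ?_
  have h2 : ∀ x : G, orderOf x = 2 → ∃ k : ℕ, x ^ (2 ^ k) ∈ W :=
    fun x hx => ⟨1, by rw [pow_one, pow_two, Basic.inv_sq_one hx]; exact one_mem _⟩
  obtain ⟨k, hk⟩ := h.closed (y⁻¹ * t * y) (mul_mem (mul_mem (inv_mem (hY hy)) ht) (hY hy)) t ht
    (h2 _ (by simpa using (Basic.orderOf_conj y⁻¹ t).trans ht2)) (h2 t ht2)
  refine mem_of_pow_two_pow (k := k) (odd_orderOf_of_mem hodd ?_) hk
  have h3 : t * y * t ∈ Y := by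
    simpa [Basic.inv_eq ht2] using (mem_normalizer_iff.1 htY y).1 hy
  rw [show y⁻¹ * t * y * t = y⁻¹ * (t * y * t) by group]
  exact mul_mem (inv_mem hy) h3

theorem exists_point (h : Hyp M W) {t : G} (ht : orderOf t = 2) : ∃ g : G, g⁻¹ * t * g ∈ M := by
  obtain ⟨c, hc, -⟩ := StronglyEmbedded.existsUnique_fixed h.se ht
  obtain ⟨g, rfl⟩ := QuotientGroup.mk_surjective c
  exact ⟨g, smul_mk_eq_iff.1 hc⟩

theorem conj_commute {x t : G} (g : G) (h : Commute x t) : Commute (g⁻¹ * x * g) (g⁻¹ * t * g) := by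
  show g⁻¹ * x * g * (g⁻¹ * t * g) = g⁻¹ * t * g * (g⁻¹ * x * g)
  rw [show g⁻¹ * x * g * (g⁻¹ * t * g) = g⁻¹ * (x * t) * g by group, h.eq]
  group

/-- An element of odd order commuting with an involution is conjugate into `W`. -/
theorem conj_mem_of_commute (h : Hyp M W) {t y : G} (ht : orderOf t = 2) (hy : Odd (orderOf y))
    (hc : Commute y t) : ∃ g : G, g⁻¹ * y * g ∈ W := by
  obtain ⟨g, hg⟩ := h.exists_point ht
  have hto : orderOf (g⁻¹ * t * g) = 2 := by simpa using (Basic.orderOf_conj g⁻¹ t).trans ht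
  refine ⟨g, h.cent _ hg hto _ (StronglyEmbedded.mem_of_commute h.se hg hto (conj_commute g hc)) ?_
    (conj_commute g hc)⟩
  simpa using (show Odd (orderOf (g⁻¹ * y * g⁻¹⁻¹)) from (Basic.orderOf_conj g⁻¹ y) ▸ hy)

/-- A subgroup of odd order normalised by two commuting involutions lies in a conjugate of `W` at their
common fixed point. -/
theorem le_conj_of_four (h : Hyp M W) {a b : G} (ha : orderOf a = 2) (hb : orderOf b = 2) (hne : a ≠ b)
    (hab : Commute a b) {Y : Subgroup G} (hY : Odd (Nat.card Y)) (haY : a ∈ normalizer (Y : Set G))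
    (hbY : b ∈ normalizer (Y : Set G)) :
    ∃ g : G, g⁻¹ * a * g ∈ M ∧ ∀ y ∈ Y, g⁻¹ * y * g ∈ W := by
  obtain ⟨g, hg⟩ := h.exists_point ha
  refine ⟨g, hg, ?_⟩
  have ord : ∀ x : G, orderOf (g⁻¹ * x * g) = orderOf x := fun x => by
    simpa using Basic.orderOf_conj g⁻¹ x
  have hbM := StronglyEmbedded.mem_of_commute h.se hg ((ord a).trans ha) (conj_commute g hab.symm)
  have hle : Y ≤ W.comap (MulAut.conj g⁻¹).toMonoidHom := by
    refine le_of_four hY (Basic.inv_sq_one ha) (Basic.inv_sq_one hb) hab haY hbY fun y hy hc => ?_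
    show g⁻¹ * y * g⁻¹⁻¹ ∈ W
    rw [inv_inv]
    have hodd : Odd (orderOf (g⁻¹ * y * g)) := (ord y).symm ▸ odd_orderOf_of_mem hY hy
    have key : ∀ s : G, orderOf s = 2 → g⁻¹ * s * g ∈ M → Commute y s → g⁻¹ * y * g ∈ W :=
      fun s hs hsM hys => h.cent _ hsM ((ord s).trans hs) _
        (StronglyEmbedded.mem_of_commute h.se hsM ((ord s).trans hs) (conj_commute g hys)) hodd
        (conj_commute g hys)
    rcases hc with hc | hc | hc
    · exact key a ha hg hc
    · exact key b hb hbM hc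
    · refine key (a * b) (Basic.orderOf_two_iff.2 ⟨?_, fun e => hne ?_⟩) ?_ hc
      · rw [mul_assoc, ← mul_assoc b, ← hab.eq, mul_assoc, Basic.inv_sq_one hb, mul_one,
          Basic.inv_sq_one ha]
      · rw [eq_inv_of_mul_eq_one_left e, Basic.inv_eq hb]
      · rw [show g⁻¹ * (a * b) * g = g⁻¹ * a * g * (g⁻¹ * b * g) by group]
        exact mul_mem hg hbM
  intro y hy
  have := hle hy
  change g⁻¹ * y * g⁻¹⁻¹ ∈ W at this
  rwa [inv_inv] at this

/-- Two distinct points are reversed by an involution. -/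
theorem exists_swap (h : Hyp M W) {x y : G ⧸ M} (hxy : x ≠ y) :
    ∃ u : G, orderOf u = 2 ∧ u • x = y ∧ u • y = x := by
  have hcard := StronglyEmbedded.card_swap h.se x y hxy
  obtain ⟨t, htM, ht⟩ := StronglyEmbedded.exists_involution_mem h.se.2.1
  haveI : Nonempty {t : G // orderOf t = 2 ∧ t ∈ M} := ⟨⟨t, ht, htM⟩⟩
  obtain ⟨⟨u, hu, hux⟩⟩ : Nonempty {i : G // orderOf i = 2 ∧ i • x = y} :=
    (Nat.card_pos_iff.1 (hcard ▸ Nat.card_pos)).1
  refine ⟨u, hu, hux, ?_⟩
  rw [← hux, smul_smul, Basic.inv_sq_one hu, one_smul]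

theorem odd_orderOf_of_fix (h : Hyp M W) {x y : G ⧸ M} (hxy : x ≠ y) {d : G} (hdx : d • x = x)
    (hdy : d • y = y) : Odd (orderOf d) := by
  by_contra hodd
  rw [Nat.not_odd_iff_even] at hodd
  obtain ⟨m, hm⟩ := hodd
  have hpos := orderOf_pos d
  have h2 : orderOf (d ^ m) = 2 := by
    rw [orderOf_pow' _ (by omega), hm, Nat.gcd_eq_right (⟨2, by omega⟩ : m ∣ m + m)]
    rw [show m + m = 2 * m by omega, Nat.mul_div_cancel _ (by omega)]
  exact hxy ((StronglyEmbedded.existsUnique_fixed h.se h2).unique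
    (mem_stabilizer_iff.1 (pow_mem (mem_stabilizer_iff.2 hdx) m))
    (mem_stabilizer_iff.1 (pow_mem (mem_stabilizer_iff.2 hdy) m)))

/-- A `p`-subgroup fixing two points lies in one that is normalised by an involution reversing them and is
maximal among the `p`-subgroups fixing them. -/
theorem exists_swap_normalizing (h : Hyp M W) {p : ℕ} [Fact p.Prime] {x y : G ⧸ M} (hxy : x ≠ y)
    {K : Subgroup G} (hK : IsPGroup p K) (hKx : K ≤ stabilizer G x) (hKy : K ≤ stabilizer G y) :
    ∃ F : Subgroup G, K ≤ F ∧ IsPGroup p F ∧ F ≤ stabilizer G x ∧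
      ∃ u : G, orderOf u = 2 ∧ u • x = y ∧ u ∈ normalizer (F : Set G) := by
  obtain ⟨u, hu, hux, huy⟩ := h.exists_swap hxy
  set D := stabilizer G x ⊓ stabilizer G y with hD
  obtain ⟨F, hF⟩ := (hK.comap_subtype (K := D)).exists_le_sylow
  set F0 := (F : Subgroup D).map D.subtype with hF0
  have hFD : F0 ≤ D := map_subtype_le _
  have hKF : K ≤ F0 := fun k hk => ⟨⟨k, hKx hk, hKy hk⟩, hF hk, rfl⟩
  have huu := Basic.inv_sq_one hu
  have hui := Basic.inv_eq hu
  have huD : ∀ d ∈ D, u * d * u ∈ D := by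
    intro d hd
    obtain ⟨hdx, hdy⟩ := mem_inf.1 hd
    rw [mem_stabilizer_iff] at hdx hdy
    refine mem_inf.2 ⟨?_, ?_⟩ <;> rw [mem_stabilizer_iff, mul_smul, mul_smul]
    · rw [hux, hdy, huy]
    · rw [huy, hdx, hux]
  -- `u` carries `F0` to another Sylow subgroup of `D`
  set F1 := F0.map (MulAut.conj u).toMonoidHom with hF1
  have hF1D : F1 ≤ D := by
    rintro _ ⟨f, hf, rfl⟩
    simpa [hui] using huD f (hFD hf)
  have hF1p : IsPGroup p (F1.subgroupOf D) :=
    ((F.2.map D.subtype).map _).comap_subtype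
  obtain ⟨F', hF'⟩ := hF1p.exists_le_sylow
  obtain ⟨d, hd⟩ := MulAction.exists_smul_eq D F F'
  have hcardF' : Nat.card (F' : Subgroup D) = Nat.card (F : Subgroup D) :=
    (Sylow.card_eq_multiplicity F').trans (Sylow.card_eq_multiplicity F).symm
  have hcard1 : Nat.card (F1.subgroupOf D) = Nat.card (F : Subgroup D) := by
    rw [Nat.card_congr (subgroupOfEquivOfLe hF1D).toEquiv, hF1,
      ← Nat.card_congr (F0.equivMapOfInjective _ (MulAut.conj u).injective).toEquiv, hF0,
      ← Nat.card_congr ((F : Subgroup D).equivMapOfInjective _ D.subtype_injective).toEquiv]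
  have hF'eq : F1.subgroupOf D = F' := eq_of_le_of_card_ge hF' (by rw [hcard1, hcardF'])
  -- so `v = d⁻¹ u` normalises `F0`
  set v := (d : G)⁻¹ * u with hv
  have hvF : ∀ f ∈ F0, v * f * v⁻¹ ∈ F0 := by
    intro f hf
    have h1 : u * f * u⁻¹ ∈ F1 := ⟨f, hf, rfl⟩
    have h2 : (⟨u * f * u⁻¹, hF1D h1⟩ : D) ∈ (F' : Subgroup D) := by
      rw [← hF'eq]; exact h1
    rw [← hd, Sylow.coe_subgroup_smul] at h2
    obtain ⟨e, he, hee⟩ := h2
    refine ⟨e, he, ?_⟩
    have := congrArg Subtype.val hee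
    simp [MulAut.smul_def] at this
    rw [hv]
    show (e : G) = _
    rw [show (d : G)⁻¹ * u * f * ((d : G)⁻¹ * u)⁻¹ = (d : G)⁻¹ * (u * f * u⁻¹) * d by group, ← this]
    group
  have hvN : v ∈ normalizer (F0 : Set G) := by
    refine mem_normalizer_fintype ?_
    exact hvF
  have hdxy : (d : G)⁻¹ • x = x ∧ (d : G)⁻¹ • y = y :=
    ⟨mem_stabilizer_iff.1 (inv_mem d.2.1), mem_stabilizer_iff.1 (inv_mem d.2.2)⟩
  have hvx : v • x = y := by rw [hv, mul_smul, hux, hdxy.2]
  have hvy : v • y = x := by rw [hv, mul_smul, huy, hdxy.1]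
  have hv2x : (v * v) • x = x := by rw [mul_smul, hvx, hvy]
  have hv2y : (v * v) • y = y := by rw [mul_smul, hvy, hvx]
  obtain ⟨n, hn⟩ := h.odd_orderOf_of_fix hxy hv2x hv2y
  set w := v ^ orderOf (v * v) with hw
  have hwx : w • x = y := by
    rw [hw, hn, pow_succ', mul_smul, pow_mul, pow_two,
      mem_stabilizer_iff.1 (pow_mem (mem_stabilizer_iff.2 hv2x) n), hvx]
  refine ⟨F0, hKF, F.2.map _, hFD.trans inf_le_left, w, ?_, hwx, pow_mem hvN _⟩
  rw [Basic.orderOf_two_iff]
  refine ⟨?_, fun e => hxy ?_⟩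
  · rw [hw, ← (Commute.refl v).mul_pow, pow_orderOf_eq_one]
  · rw [← hwx, e, one_smul]

end Hyp

end Cfsg.Agent.SECore
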