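import Cfsg.Agent.Lib.SECore.NoBadSL
import Cfsg.Agent.S0118
import Cfsg.Agent.Lib.PLocal.BlockBasic
import Cfsg.Agent.Lib.PLocal.ThompsonSubgroup

/-!
# No bad element

`Hyp.mem_of_conj_mem`: in the setting of `Hyp` an element of `M` conjugate into `W` lies in `W`
(`notes/s3214-gapb-h24.md`).
-/

set_option autoImplicit false
set_option linter.unusedSectionVars false

namespace Cfsg.Agent.SECore

open Subgroup MulAction Cfsg.Agent.Involutions Cfsg.Agent.PLocal
open scoped MatrixGroups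

universe u

variable {G : Type u} [Group G] [Finite G] {M W : Subgroup G} {p : ℕ} [hp : Fact p.Prime]

theorem isPGroup_zpowers {x : G} (h : ∃ k : ℕ, orderOf x = p ^ k) : IsPGroup p (zpowers x) :=
  let ⟨k, hk⟩ := h
  IsPGroup.of_card (n := k) (by rw [Nat.card_zpowers, hk])

theorem isPGroup_conj {R : Subgroup G} (hR : IsPGroup p R) (g : G) :
    IsPGroup p (R.map (MulAut.conj g).toMonoidHom) := hR.map _

theorem card_conj (R : Subgroup G) (g : G) : Nat.card (R.map (MulAut.conj g).toMonoidHom) = Nat.card R :=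
  (Nat.card_congr (R.equivMapOfInjective _ (MulAut.conj g).injective).toEquiv).symm

theorem mem_map_conj {R : Subgroup G} {g x : G} :
    x ∈ R.map (MulAut.conj g).toMonoidHom ↔ g⁻¹ * x * g ∈ R := by
  constructor
  · rintro ⟨r, hr, rfl⟩
    simpa [mul_assoc] using hr
  · intro h
    exact ⟨_, h, by simp [mul_assoc]⟩

/-- In the stabiliser of a point. -/
theorem le_stabilizer_iff {R : Subgroup G} {g : G} :
    R ≤ stabilizer G (g : G ⧸ M) ↔ ∀ x ∈ R, g⁻¹ * x * g ∈ M := by
  constructor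
  · exact fun h x hx => smul_mk_eq_iff.1 (mem_stabilizer_iff.1 (h hx))
  · exact fun h x hx => mem_stabilizer_iff.2 (smul_mk_eq_iff.2 (h x hx))

namespace Hyp

/-- A group of rank one reversing all pairs of its points: at most two points. -/
theorem two_points {K N : Subgroup G} (hN : RankOne N)
    (hstab : ∀ x : G ⧸ M, K ≤ stabilizer G x → ∀ t ∈ N, orderOf t = 2 → t • x ≠ x)
    (hswap : ∀ x y : G ⧸ M, K ≤ stabilizer G x → K ≤ stabilizer G y → x ≠ y →
      ∃ u ∈ N, orderOf u = 2 ∧ u • x = y)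
    {a b c : G ⧸ M} (ha : K ≤ stabilizer G a) (hb : K ≤ stabilizer G b) (hc : K ≤ stabilizer G c)
    (hab : a ≠ b) : c = a ∨ c = b := by
  by_cases hbc : c = b
  · exact Or.inr hbc
  · exact Or.inl (hN.no_triangle {x | K ≤ stabilizer G x} hstab (fun x hx y hy => hswap x y hx hy)
      ha hb hc hab (Ne.symm hbc)).symm

/-- A Sylow `p`-subgroup of `M` not inside `W` is a Sylow subgroup of `G`. -/
theorem sylow_of_max (h : Hyp M W) (hp2 : p ≠ 2) {Q : Subgroup G} (hQM : Q ≤ M) (hQ : IsPGroup p Q)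
    (hmax : ∀ R : Subgroup G, R ≤ M → IsPGroup p R → Q ≤ R → R = Q)
    (hconj : ∀ R : Subgroup G, R ≤ M → IsPGroup p R → ∃ m ∈ M, ∀ r ∈ R, m * r * m⁻¹ ∈ Q)
    (hQW : ¬ Q ≤ W) : ∃ S : Sylow p G, (S : Subgroup G) = Q := by
  have hodd : Odd (Nat.card Q) := by
    obtain ⟨n, hn⟩ := IsPGroup.iff_card.1 hQ
    rw [hn]; exact (hp.out.odd_of_ne_two hp2).pow
  -- no conjugate of `Q` lies in `W`
  have hnot : ∀ g : G, ¬ ∀ y ∈ Q, g⁻¹ * y * g ∈ W := by
    intro g hg
    set R := Q.map (MulAut.conj g⁻¹).toMonoidHom with hRdef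
    have hRW : R ≤ W := by
      rintro _ ⟨y, hy, rfl⟩
      simpa using hg y hy
    obtain ⟨m, hm, hmR⟩ := hconj R (hRW.trans h.le) (hQ.map _)
    have heq : R.map (MulAut.conj m).toMonoidHom = Q := eq_of_le_of_card_ge (by
      rintro _ ⟨r, hr, rfl⟩
      simpa using hmR r hr) (le_of_eq (by rw [card_conj, hRdef, card_conj]))
    apply hQW
    rw [← heq]
    rintro _ ⟨r, hr, rfl⟩
    simpa using h.conjW_mem hm (hRW hr)
  set N := normalizer (Q : Set G) with hN
  have hrank : RankOne N := by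
    intro a ha b hb ha2 hb2 hab
    by_contra hne
    obtain ⟨g, -, hg⟩ := h.le_conj_of_four ha2 hb2 hne hab hodd ha hb
    exact hnot g hg
  have hstab : ∀ x : G ⧸ M, Q ≤ stabilizer G x → ∀ t ∈ N, orderOf t = 2 → t • x ≠ x := by
    intro x hx t ht ht2 htx
    obtain ⟨g, rfl⟩ := QuotientGroup.mk_surjective x
    set R := Q.map (MulAut.conj g⁻¹).toMonoidHom with hRdef
    have hRW : R ≤ W := by
      refine h.le_of_normalised (t := g⁻¹ * t * g) (smul_mk_eq_iff.1 htx)
        (by simpa using (Basic.orderOf_conj g⁻¹ t).trans ht2) ?_ (by rw [hRdef, card_conj]; exact hodd) ?_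
      · rintro _ ⟨y, hy, rfl⟩
        simpa using le_stabilizer_iff.1 hx y hy
      · rw [mem_normalizer_iff]
        intro y
        rw [hRdef, mem_map_conj, mem_map_conj, mem_normalizer_iff.1 ht (g⁻¹⁻¹ * y * g⁻¹)]
        group
    exact hnot g fun y hy => by simpa using hRW (mem_map_of_mem (MulAut.conj g⁻¹).toMonoidHom hy)
  have hswap : ∀ x y : G ⧸ M, Q ≤ stabilizer G x → Q ≤ stabilizer G y → x ≠ y →
      ∃ u ∈ N, orderOf u = 2 ∧ u • x = y := by
    intro x y hx hy hxy
    obtain ⟨F, hQF, hF, hFx, u, hu, hux, huF⟩ := h.exists_swap_normalizing hxy hQ hx hy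
    obtain ⟨g, rfl⟩ := QuotientGroup.mk_surjective x
    have hFQ : F = Q := by
      set R := F.map (MulAut.conj g⁻¹).toMonoidHom with hRdef
      obtain ⟨m, hm, hmR⟩ := hconj R (by
        rintro _ ⟨y, hy, rfl⟩
        simpa using le_stabilizer_iff.1 hFx y hy) (hF.map _)
      refine (eq_of_le_of_card_ge hQF ?_).symm
      rw [← card_conj F g⁻¹, ← hRdef, ← card_conj R m]
      refine card_le_of_le ?_
      rintro _ ⟨r, hr, rfl⟩
      simpa using hmR r hr
    exact ⟨u, by rwa [hFQ] at huF, hu, hux⟩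
  obtain ⟨S, hS⟩ := hQ.exists_le_sylow
  refine ⟨S, ?_⟩
  by_contra hne
  have hlt : Q.subgroupOf (S : Subgroup G) < ⊤ := by
    rw [lt_top_iff_ne_top, Ne, subgroupOf_eq_top]
    exact fun hle => hne (le_antisymm hle hS)
  haveI : Group.IsNilpotent (S : Subgroup G) := S.2.isNilpotent
  obtain ⟨r, hr, hrQ⟩ := SetLike.exists_of_lt (Group.normalizerCondition_of_isNilpotent _ hlt)
  have hrN : (r : G) ∈ N := by
    rw [hN, mem_normalizer_iff]
    intro y
    constructor
    · intro hy
      simpa [mem_subgroupOf] using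
        (mem_normalizer_iff.1 hr ⟨y, hS hy⟩).1 (mem_subgroupOf.2 hy)
    · intro hy
      have hyS : y ∈ (S : Subgroup G) := by
        have := mul_mem (mul_mem (inv_mem r.2) (hS hy)) r.2
        simpa [mul_assoc] using this
      exact (mem_normalizer_iff.1 hr ⟨y, hyS⟩).2 (mem_subgroupOf.2 (by simpa using hy))
  obtain ⟨k, hk⟩ := IsPGroup.iff_orderOf.1 S.2 r
  rw [← Subgroup.orderOf_coe] at hk
  set o : G ⧸ M := ((1 : G) : G ⧸ M)
  have hQo : Q ≤ stabilizer G o := fun y hy => mem_stabilizer_iff.2 (smul_one_eq_iff.2 (hQM hy))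
  have hperm : ∀ x : G ⧸ M, Q ≤ stabilizer G x → Q ≤ stabilizer G ((r : G) • x) := by
    intro x hx y hy
    rw [mem_stabilizer_iff, smul_smul, show y * (r : G) = (r : G) * ((r : G)⁻¹ * y * r) by group,
      mul_smul, mem_stabilizer_iff.1 (hx (conj_inv_mem_of_mem_normalizer hrN hy))]
  have hrM : (r : G) ∈ M := by
    by_contra hrM
    have hb : (r : G) • o ≠ o := fun e => hrM (smul_one_eq_iff.1 e)
    rcases two_points hrank hstab hswap (hperm o hQo) hQo (hperm _ (hperm o hQo)) hb with e | e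
    · exact hb (MulAction.injective (r : G) e)
    · obtain ⟨m, hm⟩ := exists_pow_eq_self_of_coprime (x := (r : G)) (n := 2) (by
        rw [hk]; exact (Nat.coprime_two_left.2 (hp.out.odd_of_ne_two hp2)).pow_right k)
      apply hrM
      rw [← hm]
      refine pow_mem (smul_one_eq_iff.1 ?_) m
      rw [pow_two, mul_smul]
      exact e
  -- `Q⟨r⟩` is a larger `p`-subgroup of `M`
  have hle : Q ⊔ zpowers (r : G) ≤ M := sup_le hQM (zpowers_le.2 hrM)
  have hP : IsPGroup p ↥(Q ⊔ zpowers (r : G)) :=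
    S.2.to_le (sup_le hS (zpowers_le.2 r.2))
  apply hrQ
  show (r : G) ∈ Q
  rw [← hmax _ hle hP le_sup_left]
  exact mem_sup_right (mem_zpowers _)

/-- The case of a `p`-element of a Sylow subgroup of `M` that is Sylow in `G`; `hind` is the inductive
hypothesis for `N(Z(J))/Z(J)`. -/
theorem mem_of_sylow (h : Hyp M W) (hp2 : p ≠ 2) (S : Sylow p G) (hSM : (S : Subgroup G) ≤ M)
    (hSW : ¬ (S : Subgroup G) ≤ W)
    (hind : ∀ (K : Subgroup G), K ≠ ⊥ → K ≤ W → (∃ t ∈ M, orderOf t = 2 ∧ t ∈ normalizer (K : Set G)) →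
      ∀ n ∈ normalizer (K : Set G), ∀ x ∈ normalizer (K : Set G), x ∈ M → n * x * n⁻¹ ∈ W → x ∈ W)
    {x : G} (hx : x ∈ (S : Subgroup G)) {g : G} (hgx : g * x * g⁻¹ ∈ W) : x ∈ W := by
  set K := centerThompsonOf p (S : Subgroup G) with hKdef
  set N := normalizer (K : Set G) with hNdef
  have hJS := ThompsonSubgroup.thompsonSubgroupOf_le (p := p) (S : Subgroup G)
  have hKS : K ≤ (S : Subgroup G) := inf_le_left.trans hJS
  have hSN : (S : Subgroup G) ≤ N :=
    (le_normalizer.trans (ThompsonSubgroup.normalizer_le_normalizer_thompsonSubgroupOf _)).trans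
      (BlockBasic.le_normalizer_centerThompsonOf _)
  have hfree : ¬ ∃ (H L : Subgroup G) (_ : (L.subgroupOf H).Normal),
      Nonempty ((H ⧸ L.subgroupOf H) ≃* SL(2, ZMod p)) := fun ⟨H, L, hL, e⟩ =>
    h.not_involves_sl hp2 ⟨H, L, hL, e⟩
  have hfus : ∀ (A : Set G), A ⊆ (S : Set G) → ∀ k : G, (fun a => k⁻¹ * a * k) '' A ⊆ (S : Set G) →
      ∃ n ∈ N, ∀ a ∈ A, n⁻¹ * a * n = k⁻¹ * a * k := fun A hA k hk =>
    Cfsg.Agent.S0118.result hp2 hfree S A hA k hk
  -- weak closure
  have hwc : ∀ k : G, (∀ y ∈ K, k⁻¹ * y * k ∈ (S : Subgroup G)) → k ∈ N := by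
    intro k hk
    obtain ⟨n, hn, hne⟩ := hfus K (fun y hy => hKS hy) k (by
      rintro _ ⟨y, hy, rfl⟩
      exact hk y hy)
    have hle : ∀ y ∈ K, k⁻¹ * y * k⁻¹⁻¹ ∈ K := fun y hy => by
      rw [inv_inv, ← hne y hy]
      exact conj_inv_mem_of_mem_normalizer hn hy
    rw [← inv_mem_iff]
    exact mem_normalizer_fintype hle
  have hKodd : Odd (Nat.card K) := by
    obtain ⟨n, hn⟩ := IsPGroup.iff_card.1 (S.2.to_le hKS)
    rw [hn]; exact (hp.out.odd_of_ne_two hp2).pow
  have hSne : (S : Subgroup G) ≠ ⊥ := fun e => hSW (e ▸ bot_le)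
  have hK1 : K ≠ ⊥ := by
    have hJ1 : thompsonSubgroupOf p (S : Subgroup G) ≠ ⊥ := by
      have hdvd : p ∣ Nat.card (S : Subgroup G) := by
        obtain ⟨n, hn⟩ := IsPGroup.iff_card.1 S.2
        rcases n with _ | n
        · rw [pow_zero, card_eq_one] at hn
          exact absurd hn hSne
        · exact hn ▸ dvd_pow_self p n.succ_ne_zero
      rw [thompsonSubgroupOf, Ne, map_eq_bot_iff_of_injective _ (S : Subgroup G).subtype_injective]
      exact ThompsonSubgroup.thompsonSubgroup_ne_bot hdvd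
    haveI : Nontrivial (thompsonSubgroupOf p (S : Subgroup G)) := (nontrivial_iff_ne_bot _).2 hJ1
    haveI := IsPGroup.center_nontrivial (S.2.to_le hJS)
    obtain ⟨⟨z, hz⟩, hz1⟩ := exists_ne (1 : center (thompsonSubgroupOf p (S : Subgroup G)))
    intro e
    have hzK : (z : G) ∈ K := ⟨z.2, mem_centralizer_iff.2 fun y hy =>
      congrArg Subtype.val (mem_center_iff.1 hz ⟨y, hy⟩)⟩
    rw [e, mem_bot] at hzK
    exact hz1 (Subtype.ext (Subtype.ext hzK))
  have hxM := hSM hx
  -- a conjugate of `x` in `S ∩ W`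
  have hSconj : ∀ z ∈ M, (∃ k : ℕ, orderOf z = p ^ k) → ∃ m ∈ M, m * z * m⁻¹ ∈ (S : Subgroup G) := by
    intro z hz hzp
    obtain ⟨T, hT⟩ := ((isPGroup_zpowers hzp).comap_subtype (K := M)).exists_le_sylow
    obtain ⟨m, hm⟩ := MulAction.exists_smul_eq M T (S.subtype hSM)
    refine ⟨m, m.2, ?_⟩
    have h1 : (⟨z, hz⟩ : M) ∈ (T : Subgroup M) := hT (mem_zpowers z)
    have h2 : m * (⟨z, hz⟩ : M) * m⁻¹ ∈ ((m • T : Sylow p M) : Subgroup M) := by
      rw [Sylow.coe_subgroup_smul]
      exact ⟨_, h1, rfl⟩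
    rw [hm] at h2
    simpa [Sylow.coe_subtype, mem_subgroupOf] using h2
  obtain ⟨k, hk⟩ := IsPGroup.iff_orderOf.1 S.2 ⟨x, hx⟩
  rw [Subgroup.orderOf_mk] at hk
  obtain ⟨m, hm, hmz⟩ := hSconj (g * x * g⁻¹) (h.le hgx) ⟨k, by rw [Basic.orderOf_conj, hk]⟩
  obtain ⟨n, hn, hne⟩ := hfus {x} (Set.singleton_subset_iff.2 hx) ((m * g)⁻¹) (by
    rw [Set.image_singleton, Set.singleton_subset_iff]
    convert hmz using 1
    group
    rfl)
  have hn' : n⁻¹ * x * n ∈ W := by
    rw [hne x rfl]
    have := h.conjW_mem hm hgx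
    simpa [mul_assoc] using this
  by_cases hI : ∃ t ∈ M, orderOf t = 2 ∧ t ∈ N
  · obtain ⟨t, htM, ht2, htN⟩ := hI
    have hKW : K ≤ W := h.le_of_normalised htM ht2 (hKS.trans hSM) hKodd htN
    exact hind K hK1 hKW ⟨t, htM, ht2, htN⟩ n⁻¹ (inv_mem hn) x (hSN hx) hxM (by simpa using hn')
  · push Not at hI
    have hrank : RankOne N := by
      intro a ha b hb ha2 hb2 hab
      by_contra hne'
      obtain ⟨g', hg', hKg⟩ := h.le_conj_of_four ha2 hb2 hne' hab hKodd ha hb
      -- `K` fixes the point of `a`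
      obtain ⟨T, hT⟩ := ((isPGroup_conj (S.2.to_le hKS) g'⁻¹).comap_subtype (K := M)).exists_le_sylow
      obtain ⟨m', hm'⟩ := MulAction.exists_smul_eq M T (S.subtype hSM)
      have hgm : (m' : G) * g'⁻¹ ∈ N := by
        rw [← inv_mem_iff]
        refine hwc _ fun y hy => ?_
        have h1 : (⟨g'⁻¹ * y * g', h.le (hKg y hy)⟩ : M) ∈ (T : Subgroup M) :=
          hT (mem_map_conj.2 (by simpa [mul_assoc] using hy))
        have h2 : m' * (⟨g'⁻¹ * y * g', h.le (hKg y hy)⟩ : M) * m'⁻¹ ∈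
            ((m' • T : Sylow p M) : Subgroup M) := by
          rw [Sylow.coe_subgroup_smul]
          exact ⟨_, h1, rfl⟩
        rw [hm'] at h2
        simpa [Sylow.coe_subtype, mem_subgroupOf, mul_assoc] using h2
      refine hI _ (mul_mem (mul_mem m'.2 hg') (inv_mem m'.2)) ?_ ?_
      · rw [Basic.orderOf_conj]
        simpa using (Basic.orderOf_conj g'⁻¹ a).trans ha2
      · rw [show (m' : G) * (g'⁻¹ * a * g') * (m' : G)⁻¹ =
          (m' : G) * g'⁻¹ * a * ((m' : G) * g'⁻¹)⁻¹ by group]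
        exact mul_mem (mul_mem hgm ha) (inv_mem hgm)
    have htrans : ∀ y : G ⧸ M, K ≤ stabilizer G y → ∃ n ∈ N, y = ((n : G) : G ⧸ M) := by
      intro y hy
      obtain ⟨g', rfl⟩ := QuotientGroup.mk_surjective y
      obtain ⟨T, hT⟩ := ((isPGroup_conj (S.2.to_le hKS) g'⁻¹).comap_subtype (K := M)).exists_le_sylow
      obtain ⟨m', hm'⟩ := MulAction.exists_smul_eq M T (S.subtype hSM)
      refine ⟨g' * (m' : G)⁻¹, hwc _ fun z hz => ?_, ?_⟩
      · have hzM : g'⁻¹ * z * g' ∈ M := le_stabilizer_iff.1 hy z hz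
        have h1 : (⟨g'⁻¹ * z * g', hzM⟩ : M) ∈ (T : Subgroup M) :=
          hT (mem_map_conj.2 (by simpa [mul_assoc] using hz))
        have h2 : m' * (⟨g'⁻¹ * z * g', hzM⟩ : M) * m'⁻¹ ∈ ((m' • T : Sylow p M) : Subgroup M) := by
          rw [Sylow.coe_subgroup_smul]
          exact ⟨_, h1, rfl⟩
        rw [hm'] at h2
        simpa [Sylow.coe_subtype, mem_subgroupOf, mul_assoc] using h2
      · rw [QuotientGroup.eq]
        simp
    have hstab : ∀ y : G ⧸ M, K ≤ stabilizer G y → ∀ t ∈ N, orderOf t = 2 → t • y ≠ y := by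
      intro y hy t ht ht2 hty
      obtain ⟨n', hn'N, rfl⟩ := htrans y hy
      exact hI _ (smul_mk_eq_iff.1 hty) (by simpa using (Basic.orderOf_conj n'⁻¹ t).trans ht2)
        (mul_mem (mul_mem (inv_mem hn'N) ht) hn'N)
    have hswap : ∀ y z : G ⧸ M, K ≤ stabilizer G y → K ≤ stabilizer G z → y ≠ z →
        ∃ u ∈ N, orderOf u = 2 ∧ u • y = z := by
      intro y z hy hz hyz
      obtain ⟨F, hKF, hF, -, u, hu, huy, huF⟩ := h.exists_swap_normalizing hyz (S.2.to_le hKS) hy hz
      obtain ⟨S1, hS1⟩ := hF.exists_le_sylow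
      obtain ⟨h1, hh1⟩ := MulAction.exists_smul_eq G S1 S
      have hmem : ∀ w ∈ F, h1 * w * h1⁻¹ ∈ (S : Subgroup G) := fun w hw => by
        rw [← hh1, Sylow.coe_subgroup_smul]
        exact ⟨w, hS1 hw, rfl⟩
      have hh1N : h1⁻¹ ∈ N := hwc _ fun w hw => by
        rw [inv_inv]; exact hmem w (hKF hw)
      have huN : u * h1⁻¹ ∈ N := hwc _ fun w hw => by
        rw [show (u * h1⁻¹)⁻¹ * w * (u * h1⁻¹) = h1 * (u⁻¹ * w * u) * h1⁻¹ by group]
        exact hmem _ (conj_inv_mem_of_mem_normalizer huF (hKF hw))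
      exact ⟨u, by simpa using mul_mem huN (inv_mem hh1N), hu, huy⟩
    set o : G ⧸ M := ((1 : G) : G ⧸ M) with ho
    have hKo : K ≤ stabilizer G o := fun y hy => mem_stabilizer_iff.2 (smul_one_eq_iff.2 (hSM (hKS hy)))
    have hperm : ∀ q ∈ N, ∀ y : G ⧸ M, K ≤ stabilizer G y → K ≤ stabilizer G (q • y) := by
      intro q hq y hy z hz
      rw [mem_stabilizer_iff, smul_smul, show z * q = q * (q⁻¹ * z * q) by group,
        mul_smul, mem_stabilizer_iff.1 (hy (conj_inv_mem_of_mem_normalizer hq hz))]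
    have hWS : ∀ q ∈ M, ∀ z ∈ W, q⁻¹ * z * q ∈ W := fun q hq z hz => by
      simpa using h.conjW_mem (inv_mem hq) hz
    by_cases hone : ∀ q ∈ N, q ∈ M
    · simpa [mul_assoc] using h.conjW_mem (hone n hn) hn'
    push Not at hone
    obtain ⟨q0, hq0, hq0M⟩ := hone
    set b := q0 • o with hb
    have hbo : b ≠ o := fun e => hq0M (smul_one_eq_iff.1 e)
    have hKb := hperm q0 hq0 o hKo
    have honly : ∀ c : G ⧸ M, K ≤ stabilizer G c → c = o ∨ c = b := fun c hc =>
      two_points hrank hstab hswap hKo hKb hc (Ne.symm hbo)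
    -- `S` fixes `b`
    have hSb : (S : Subgroup G) ≤ stabilizer G b := fun s hs => by
      rw [mem_stabilizer_iff]
      rcases honly _ (hperm s (hSN hs) b hKb) with e | e
      · exact absurd (MulAction.injective s (e.trans (smul_one_eq_iff.2 (hSM hs)).symm)) hbo
      · exact e
    have hSo : (S : Subgroup G) ≤ stabilizer G o := fun s hs =>
      mem_stabilizer_iff.2 (smul_one_eq_iff.2 (hSM hs))
    obtain ⟨F, hSF, hF, -, u, hu, huo, huF⟩ := h.exists_swap_normalizing (Ne.symm hbo) S.2 hSo hSb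
    have hFS : F = (S : Subgroup G) := S.3 hF hSF
    rw [hFS] at huF
    have hui := Basic.inv_eq hu
    have huu := Basic.inv_sq_one hu
    have hucS : ∀ y ∈ (S : Subgroup G), u * y * u ∈ (S : Subgroup G) := fun y hy => by
      simpa [hui] using (mem_normalizer_iff.1 huF y).1 hy
    have huN : u ∈ N := hwc u fun y hy => by rw [hui]; exact hucS y (hKS hy)
    -- an element of `S` conjugate into `W` lies in `W` or is moved by `u` into `W`
    have halt : ∀ y ∈ (S : Subgroup G), ∀ q ∈ N, q⁻¹ * y * q ∈ W → y ∈ W ∨ u * y * u ∈ W := by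
      intro y hy q hq hqy
      rcases honly _ (hperm q hq o hKo) with e | e
      · left
        simpa [mul_assoc] using h.conjW_mem (smul_one_eq_iff.1 e) hqy
      · right
        have huq : u * q ∈ M := smul_one_eq_iff.1 (by
          rw [mul_smul, e, ← huo, smul_smul, huu, one_smul])
        have := h.conjW_mem huq hqy
        rwa [show u * q * (q⁻¹ * y * q) * (u * q)⁻¹ = u * y * u⁻¹ by group, hui] at this
    have hkey : ∀ r ∈ (S : Subgroup G), r ∈ W → u * r * u ∈ W := by
      intro r hr hrW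
      set s := u * r * u with hs
      have hsS : s ∈ (S : Subgroup G) := hucS r hr
      have husu : u * s * u = r := by
        rw [hs]
        calc u * (u * r * u) * u = (u * u) * r * (u * u) := by group
          _ = r := by rw [huu]; group
      set R0 := (S : Subgroup G) ⊓ W ⊓ W.comap (MulAut.conj u).toMonoidHom with hR0
      set w := r * s with hw
      have huwu : u * w * u = s * r := by
        rw [hw]
        calc u * (r * s) * u = u * r * (u * u) * s * u := by rw [huu]; group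
          _ = (u * r * u) * (u * s * u) := by group
          _ = s * r := by rw [husu]
      have hρS : w⁻¹ * (u * w * u) ∈ (S : Subgroup G) :=
        mul_mem (inv_mem (mul_mem hr hsS)) (huwu ▸ mul_mem hsS hr)
      have hρW : w⁻¹ * (u * w * u) ∈ W := by
        rw [huwu, hw, show (r * s)⁻¹ * (s * r) = (s⁻¹ * r⁻¹ * s) * r by group]
        exact mul_mem (hWS s (hSM hsS) _ (inv_mem hrW)) hrW
      have hρu : u * (w⁻¹ * (u * w * u)) * u ∈ W := by
        have e : u * (w⁻¹ * (u * w * u)) * u = (u * w * u)⁻¹ * w := by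
          calc u * (w⁻¹ * (u * w * u)) * u = u⁻¹ * w⁻¹ * u⁻¹ * w * (u * u) := by rw [hui]; group
            _ = (u * w * u)⁻¹ * w := by rw [huu, mul_one]; group
        rw [e, huwu, hw, show (s * r)⁻¹ * (r * s) = r⁻¹ * (s⁻¹ * r * s) by group]
        exact mul_mem (inv_mem hrW) (hWS s (hSM hsS) _ hrW)
      have hmemR0 : ∀ z, z ∈ R0 ↔ (z ∈ (S : Subgroup G) ∧ z ∈ W) ∧ u * z * u ∈ W := fun z => by
        rw [hR0, mem_inf, mem_inf]
        simp [hui]
      have huR0 : u ∈ normalizer (R0 : Set G) := by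
        refine mem_normalizer_fintype fun z hz => ?_
        rw [SetLike.mem_coe, hmemR0] at hz ⊢
        rw [hui]
        refine ⟨⟨hucS z hz.1.1, hz.2⟩, ?_⟩
        rw [show u * (u * z * u) * u = (u * u) * z * (u * u) by group, huu, one_mul, mul_one]
        exact hz.1.2
      obtain ⟨c, hc, hcomm⟩ := exists_fixed_coset (y := w) huu huR0
        (h.odd.of_dvd_nat (card_dvd_of_le (inf_le_left.trans inf_le_right))) (by
          rw [hmemR0, show w⁻¹ * u * w * u = w⁻¹ * (u * w * u) by group]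
          exact ⟨⟨hρS, hρW⟩, hρu⟩)
      rw [hmemR0] at hc
      have hwcS : w * c ∈ (S : Subgroup G) := mul_mem (mul_mem hr hsS) hc.1.1
      have hodd : Odd (orderOf (w * c)) := by
        obtain ⟨j, hj⟩ := IsPGroup.iff_orderOf.1 S.2 ⟨_, hwcS⟩
        rw [Subgroup.orderOf_mk] at hj
        rw [hj]; exact (hp.out.odd_of_ne_two hp2).pow
      obtain ⟨g', hg'⟩ := h.conj_mem_of_commute hu hodd hcomm
      obtain ⟨m', hm', hm'S⟩ := hSconj _ (h.le hg') (by
        obtain ⟨j, hj⟩ := IsPGroup.iff_orderOf.1 S.2 ⟨_, hwcS⟩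
        rw [Subgroup.orderOf_mk] at hj
        exact ⟨j, by rw [← hj]; simpa using Basic.orderOf_conj g'⁻¹ (w * c)⟩)
      obtain ⟨q, hq, hqe⟩ := hfus {w * c} (Set.singleton_subset_iff.2 hwcS) (g' * m'⁻¹) (by
        rw [Set.image_singleton, Set.singleton_subset_iff]
        convert hm'S using 1
        group
        rfl)
      have hqW : q⁻¹ * (w * c) * q ∈ W := by
        rw [hqe _ rfl]
        simpa [mul_assoc] using h.conjW_mem hm' hg'
      have hwcW : w * c ∈ W := by
        rcases halt _ hwcS q hq hqW with e | e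
        · exact e
        · have : u * (w * c) * u = w * c := by
            rw [← hcomm.eq, mul_assoc, huu, mul_one]
          rwa [this] at e
      have hwW : w ∈ W := by simpa using mul_mem hwcW (inv_mem hc.1.2)
      simpa [hw] using mul_mem (inv_mem hrW) hwW
    rcases halt x hx n hn hn' with e | e
    · exact e
    · have := hkey _ (hucS x hx) e
      rwa [show u * (u * x * u) * u = (u * u) * x * (u * u) by group, huu, one_mul, mul_one] at this

end Hyp

omit hp in
/-- The theorem, for groups of every order. -/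
theorem mem_of_conj_mem_aux : ∀ (n : ℕ) (G : Type u) [Group G] [Finite G], Nat.card G = n →
    ∀ (M W : Subgroup G), Hyp M W → ∀ x ∈ M, ∀ g : G, g * x * g⁻¹ ∈ W → x ∈ W := by
  intro n
  induction n using Nat.strong_induction_on with
  | _ n ih =>
  intro G _ _ hn M W h x hx g hgx
  induction hk : orderOf x using Nat.recOnPrimeCoprime generalizing x with
  | zero => exact absurd hk (orderOf_pos x).ne'
  | coprime a b _ _ hab iha ihb =>
    have hxa : orderOf (x ^ a) = b := by
      rw [orderOf_pow, hk, Nat.gcd_eq_right (dvd_mul_right a b), Nat.mul_div_cancel_left]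
      rename_i ha _
      omega
    have hxb : orderOf (x ^ b) = a := by
      rw [orderOf_pow, hk, Nat.gcd_eq_right (dvd_mul_left b a), Nat.mul_div_cancel]
      rename_i _ hb
      omega
    have h1 : x ^ a ∈ W := ihb _ (pow_mem hx a) (by rw [← conj_pow]; exact pow_mem hgx a) hxa
    have h2 : x ^ b ∈ W := iha _ (pow_mem hx b) (by rw [← conj_pow]; exact pow_mem hgx b) hxb
    have h3 : x = (x ^ a) ^ a.gcdA b * (x ^ b) ^ a.gcdB b := by
      rw [← zpow_natCast x a, ← zpow_natCast x b, ← zpow_mul, ← zpow_mul, ← zpow_add,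
        ← Nat.gcd_eq_gcd_ab, Nat.coprime_iff_gcd_eq_one.mp hab, Nat.cast_one, zpow_one]
    rw [h3]
    exact mul_mem (zpow_mem h1 _) (zpow_mem h2 _)
  | prime_pow p j hpp =>
    haveI := Fact.mk hpp
    rcases Nat.eq_zero_or_pos j with hj | hj
    · rw [hj, pow_zero, orderOf_eq_one_iff] at hk
      rw [hk]; exact one_mem W
    by_cases hp2 : p = 2
    · have h1 := odd_orderOf_of_mem h.odd hgx
      rw [Basic.orderOf_conj, hk, hp2] at h1
      exact absurd (Nat.even_pow.2 ⟨even_two, hj.ne'⟩) (Nat.not_even_iff_odd.2 h1)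
    obtain ⟨T, hT⟩ := ((isPGroup_zpowers ⟨j, hk⟩).comap_subtype (K := M)).exists_le_sylow
    set Q := (T : Subgroup M).map M.subtype with hQdef
    have hxQ : x ∈ Q := ⟨⟨x, hx⟩, hT (mem_zpowers x), rfl⟩
    by_cases hQW : Q ≤ W
    · exact hQW hxQ
    have hconj : ∀ R : Subgroup G, R ≤ M → IsPGroup p R → ∃ m ∈ M, ∀ r ∈ R, m * r * m⁻¹ ∈ Q := by
      intro R hR hRp
      obtain ⟨T', hT'⟩ := (hRp.comap_subtype (K := M)).exists_le_sylow
      obtain ⟨m, hm⟩ := MulAction.exists_smul_eq M T' T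
      refine ⟨m, m.2, fun r hr => ⟨m * ⟨r, hR hr⟩ * m⁻¹, ?_, rfl⟩⟩
      rw [← hm, SetLike.mem_coe, Sylow.coe_subgroup_smul]
      exact ⟨_, hT' (show (⟨r, hR hr⟩ : M) ∈ R.comap M.subtype from hr), rfl⟩
    have hmax : ∀ R : Subgroup G, R ≤ M → IsPGroup p R → Q ≤ R → R = Q := by
      intro R hR hRp hQR
      have h1 : R.subgroupOf M = T := T.3 hRp.comap_subtype fun t ht =>
        mem_subgroupOf.2 (hQR (mem_map_of_mem M.subtype ht))
      rw [hQdef, ← h1, subgroupOf_map_subtype, inf_eq_left.2 hR]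
    obtain ⟨S, hS⟩ := h.sylow_of_max hp2 (map_subtype_le _) (T.2.map _) hmax hconj hQW
    refine h.mem_of_sylow hp2 S (hS ▸ map_subtype_le _) (by rwa [hS]) ?_ (hS ▸ hxQ) hgx
    -- induction through `N(K) / K`
    intro K hK1 hKW ⟨t, htM, ht2, htN⟩ q hq y hy hyM hqy
    set N := normalizer (K : Set G) with hNdef
    by_cases hNM : N ≤ M
    · have := h.conjW_mem (inv_mem (hNM hq)) hqy
      simpa [mul_assoc] using this
    set L := K.subgroupOf N with hL
    haveI : L.Normal := by rw [hL, hNdef]; infer_instance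
    have hKN : K ≤ N := le_normalizer
    set π := QuotientGroup.mk' L with hπ
    have hπs : Function.Surjective π := QuotientGroup.mk'_surjective L
    have hker : ∀ z : N, π z = 1 ↔ (z : G) ∈ K := fun z => by
      rw [hπ, QuotientGroup.mk'_apply, QuotientGroup.eq_one_iff, hL, mem_subgroupOf]
    set M' := (M.subgroupOf N).map π with hM'
    set W' := (W.subgroupOf N).map π with hW'
    have hlift : ∀ (H : Subgroup G), K ≤ H → ∀ z : N,
        π z ∈ (H.subgroupOf N).map π ↔ (z : G) ∈ H := by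
      intro H hKH z
      constructor
      · rintro ⟨z', hz', e⟩
        have h1 : ((z'⁻¹ * z : N) : G) ∈ H := hKH ((hker _).1 (by rw [map_mul, map_inv, e, inv_mul_cancel]))
        simpa [mul_assoc] using mul_mem (mem_subgroupOf.1 hz') h1
      · exact fun hz => mem_map_of_mem π (mem_subgroupOf.2 hz)
    have hKM : K ≤ M := hKW.trans h.le
    have hKodd : Odd (Nat.card K) := h.odd.of_dvd_nat (card_dvd_of_le hKW)
    haveI : Fact (Nat.Prime 2) := ⟨Nat.prime_two⟩
    have h' : Hyp M' W' := by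
      refine ⟨StronglyEmbedded.of_conj ?_ ?_ ?_, map_mono (comap_mono h.le), ?_, ?_, ?_, ?_⟩
      · intro e
        exact hNM fun z hz => (hlift M hKM ⟨z, hz⟩).1 (by rw [← hM', e]; exact mem_top _)
      · rw [even_iff_two_dvd]
        have htm : π ⟨t, htN⟩ ∈ M' := (hlift M hKM _).2 htM
        have h1 : orderOf (π ⟨t, htN⟩) = 2 := by
          rw [Basic.orderOf_two_iff]
          refine ⟨by rw [← map_mul]; convert map_one π; exact Subtype.ext (Basic.inv_sq_one ht2), fun e => ?_⟩
          have h2 := odd_orderOf_of_mem hKodd ((hker _).1 e)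
          rw [show orderOf ((⟨t, htN⟩ : N) : G) = 2 from ht2] at h2
          exact absurd h2 (by decide)
        have h2 := orderOf_dvd_natCard (⟨_, htm⟩ : M')
        rwa [Subgroup.orderOf_mk, h1] at h2
      · intro s hs hs2 q' hq'
        obtain ⟨z, rfl⟩ := hπs s
        obtain ⟨q', rfl⟩ := hπs q'
        obtain ⟨m, hm, jj, hjj⟩ := exists_two_part z
        have hzm : π (z ^ m) = π z := by
          obtain ⟨i, rfl⟩ := hm
          rw [map_pow, pow_succ, pow_mul, pow_two, Basic.inv_sq_one hs2, one_pow, one_mul]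
        have hz2 : orderOf ((z ^ m : N) : G) = 2 := by
          have h1 : ((z ^ m * z ^ m : N) : G) ∈ K := (hker _).1 (by
            rw [map_mul, hzm, Basic.inv_sq_one hs2])
          have h2 := odd_orderOf_of_mem hKodd h1
          have h3 : orderOf (z ^ m * z ^ m) ∣ 2 ^ jj := by
            rw [← hjj, ← pow_two]; exact orderOf_pow_dvd 2
          rw [Subgroup.orderOf_coe] at h2 ⊢
          rw [Basic.orderOf_two_iff]
          refine ⟨?_, fun e => Basic.ne_one hs2 (by rw [← hzm, e, map_one])⟩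
          obtain ⟨i, -, hi⟩ := (Nat.dvd_prime_pow Nat.prime_two).1 h3
          rcases i with _ | i
          · exact orderOf_eq_one_iff.1 hi
          · rw [hi, pow_succ] at h2
            exact absurd (even_two.mul_left (2 ^ i)) (Nat.not_even_iff_odd.2 h2)
        refine (hlift M hKM q').2 (StronglyEmbedded.mem_of_conj h.se (t := ((z ^ m : N) : G))
          ((hlift M hKM _).1 (by rw [hzm]; exact hs)) hz2 ?_)
        have := (hlift M hKM (q' * z ^ m * q'⁻¹)).1 (by
          rw [map_mul, map_mul, map_inv, hzm]; exact hq')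
        simpa using this
      · rintro m' hm'
        obtain ⟨z, rfl⟩ := hπs m'
        have hzM : (z : G) ∈ M := (hlift M hKM z).1 hm'
        rw [mem_normalizer_iff]
        intro v
        obtain ⟨v, rfl⟩ := hπs v
        rw [← map_inv, ← map_mul, ← map_mul, hW', hlift W hKW, hlift W hKW]
        exact mem_normalizer_iff.1 (h.normal hzM) (v : G)
      · refine h.odd.of_dvd_nat ((card_map_dvd _ _).trans ?_)
        rw [← inf_subgroupOf_right, Nat.card_congr (subgroupOfEquivOfLe inf_le_right).toEquiv]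
        exact card_dvd_of_le inf_le_left
      · intro s hs hs2 v hv hvodd hvs
        obtain ⟨z, rfl⟩ := hπs s
        obtain ⟨v, rfl⟩ := hπs v
        obtain ⟨m, hm, jj, hjj⟩ := exists_two_part z
        have hzm : π (z ^ m) = π z := by
          obtain ⟨i, rfl⟩ := hm
          rw [map_pow, pow_succ, pow_mul, pow_two, Basic.inv_sq_one hs2, one_pow, one_mul]
        have hzz : z ^ m * z ^ m = 1 := by
          have h1 : ((z ^ m * z ^ m : N) : G) ∈ K := (hker _).1 (by
            rw [map_mul, hzm, Basic.inv_sq_one hs2])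
          have h2 := odd_orderOf_of_mem hKodd h1
          have h3 : orderOf (z ^ m * z ^ m) ∣ 2 ^ jj := by
            rw [← hjj, ← pow_two]; exact orderOf_pow_dvd 2
          rw [Subgroup.orderOf_coe] at h2
          obtain ⟨i, -, hi⟩ := (Nat.dvd_prime_pow Nat.prime_two).1 h3
          rcases i with _ | i
          · exact orderOf_eq_one_iff.1 hi
          · rw [hi, pow_succ] at h2
            exact absurd (even_two.mul_left (2 ^ i)) (Nat.not_even_iff_odd.2 h2)
        have hz2 : orderOf ((z ^ m : N) : G) = 2 := by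
          rw [Subgroup.orderOf_coe, Basic.orderOf_two_iff]
          exact ⟨hzz, fun e => Basic.ne_one hs2 (by rw [← hzm, e, map_one])⟩
        rw [hW', hlift W hKW]
        refine h.mem_of_comm_mem ((hlift M hKM _).1 (by rw [hzm]; exact hs)) hz2
          ((hlift M hKM v).1 hv) (odd_orderOf_of_pow_mem hKodd hvodd ?_) (hKW ?_)
        · have h1 := (hker (v ^ orderOf (π v))).1 (by rw [map_pow, pow_orderOf_eq_one])
          simpa using h1
        · have h1 := (hker (v⁻¹ * z ^ m * v * z ^ m)).1 (by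
            rw [map_mul, map_mul, map_mul, map_inv, hzm, mul_assoc (π v)⁻¹, ← hvs.eq,
              inv_mul_cancel_left, Basic.inv_sq_one hs2])
          simpa using h1
      · intro a ha b hb ⟨ka, hka⟩ ⟨kb, hkb⟩
        obtain ⟨a, rfl⟩ := hπs a
        obtain ⟨b, rfl⟩ := hπs b
        rw [← map_pow, hW', hlift W hKW] at hka hkb
        obtain ⟨kc, hkc⟩ := h.closed (a : G) ((hlift M hKM a).1 ha) (b : G) ((hlift M hKM b).1 hb)
          ⟨ka, by simpa using hka⟩ ⟨kb, by simpa using hkb⟩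
        exact ⟨kc, by rw [← map_mul, ← map_pow, hW', hlift W hKW]; simpa using hkc⟩
    have hlt : Nat.card (N ⧸ L) < n := by
      have h1 : Nat.card N = Nat.card (N ⧸ L) * Nat.card L := card_eq_card_quotient_mul_card_subgroup L
      have h2 : 1 < Nat.card L := by
        rw [hL, Nat.card_congr (subgroupOfEquivOfLe hKN).toEquiv]
        exact one_lt_card_iff_ne_bot K |>.2 hK1
      have h3 : Nat.card N ≤ n := hn ▸ card_le_card_group N
      have h4 : 0 < Nat.card (N ⧸ L) := Nat.card_pos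
      nlinarith
    have := ih _ hlt (N ⧸ L) rfl M' W' h' (π ⟨y, hy⟩) ((hlift M hKM _).2 hyM) (π ⟨q, hq⟩) (by
      rw [← map_inv, ← map_mul, ← map_mul, hW', hlift W hKW]; exact hqy)
    exact (hlift W hKW _).1 this

omit hp in
/-- An element of `M` conjugate into `W` lies in `W`. -/
theorem Hyp.mem_of_conj_mem (h : Hyp M W) {x g : G} (hx : x ∈ M) (hgx : g * x * g⁻¹ ∈ W) : x ∈ W :=
  mem_of_conj_mem_aux _ G rfl M W h x hx g hgx

omit hp in
/-- An element of odd order of `M` commuting with some involution of `G` lies in `W`: no bad element. -/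
theorem Hyp.mem_of_commute_involution (h : Hyp M W) {x u : G} (hx : x ∈ M) (hodd : Odd (orderOf x))
    (hu : orderOf u = 2) (hc : Commute x u) : x ∈ W := by
  obtain ⟨g, hg⟩ := h.conj_mem_of_commute hu hodd hc
  exact h.mem_of_conj_mem hx (g := g⁻¹) (by simpa using hg)

end Cfsg.Agent.SECore
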