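import Cfsg.Agent.Lib.SECore.NoBadBasic
import Cfsg.Agent.Lib.PLocal.ZJCenterFusion

/-!
# No `SL(2,p)` sections when the core holds the odd parts of the involution centralisers
-/

set_option autoImplicit false
set_option linter.unusedSectionVars false

namespace Cfsg.Agent.SECore

open Subgroup MulAction Cfsg.Agent.Involutions
open scoped MatrixGroups

universe u

variable {p : ℕ} [hp : Fact p.Prime]

/-- The upper transvection. -/
def slU (p : ℕ) : SL(2, ZMod p) := ⟨!![1, 1; 0, 1], by simp [Matrix.det_fin_two]⟩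

/-- The negative of the identity. -/
def slZ (p : ℕ) : SL(2, ZMod p) := ⟨!![-1, 0; 0, -1], by simp [Matrix.det_fin_two]⟩

/-- An element of order four. -/
def slS (p : ℕ) : SL(2, ZMod p) := ⟨!![0, 1; -1, 0], by simp [Matrix.det_fin_two]⟩

@[simp] theorem coe_slU : (slU p : Matrix (Fin 2) (Fin 2) (ZMod p)) = !![1, 1; 0, 1] := rfl

@[simp] theorem coe_slZ : (slZ p : Matrix (Fin 2) (Fin 2) (ZMod p)) = !![-1, 0; 0, -1] := rfl

@[simp] theorem coe_slS : (slS p : Matrix (Fin 2) (Fin 2) (ZMod p)) = !![0, 1; -1, 0] := rfl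

theorem two_ne_zero_zmod (hp2 : p ≠ 2) : (2 : ZMod p) ≠ 0 := by
  intro h
  have h2 : ((2 : ℕ) : ZMod p) = 0 := by simpa using h
  rw [ZMod.natCast_eq_zero_iff] at h2
  exact hp2 ((Nat.prime_dvd_prime_iff_eq hp.out Nat.prime_two).1 h2)

theorem orderOf_slZ (hp2 : p ≠ 2) : orderOf (slZ p) = 2 := by
  rw [Basic.orderOf_two_iff]
  refine ⟨?_, fun h => two_ne_zero_zmod (p := p) hp2 ?_⟩
  · ext i j
    fin_cases i <;> fin_cases j <;> simp [Matrix.mul_apply, Fin.sum_univ_two]
  · have := congrArg (fun A : SL(2, ZMod p) => (A : Matrix (Fin 2) (Fin 2) (ZMod p)) 0 0) h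
    simp [slZ] at this
    calc (2 : ZMod p) = 1 - (-1) := by ring
      _ = 0 := by rw [this, sub_self]

theorem commute_slZ (g : SL(2, ZMod p)) : Commute g (slZ p) := by
  ext i j
  fin_cases i <;> fin_cases j <;> simp [Matrix.mul_apply, Fin.sum_univ_two]

theorem slU_pow (n : ℕ) : ((slU p ^ n : SL(2, ZMod p)) : Matrix (Fin 2) (Fin 2) (ZMod p)) = !![1, (n : ZMod p); 0, 1] := by
  induction n with
  | zero => simp [Matrix.one_fin_two]
  | succ n ih =>
    rw [pow_succ, Matrix.SpecialLinearGroup.coe_mul, ih]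
    ext i j
    fin_cases i <;> fin_cases j <;> simp [slU, Matrix.mul_apply, Fin.sum_univ_two, add_comm]

theorem orderOf_slU : orderOf (slU p) = p := by
  refine orderOf_eq_prime (Subtype.ext ?_) fun h => ?_
  · rw [slU_pow]; simp [Matrix.one_fin_two]
  · have := congrArg (fun A : SL(2, ZMod p) => (A : Matrix (Fin 2) (Fin 2) (ZMod p)) 0 1) h
    simp [slU] at this

/-- A normal subgroup of odd order of `SL(2,p)` contains no transvection. -/
theorem slU_notMem (hp2 : p ≠ 2) (Y : Subgroup SL(2, ZMod p)) (hY : Y.Normal) (hodd : Odd (Nat.card Y)) :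
    slU p ∉ Y := by
  intro hu
  have h1 : slU p * (slS p * slU p * (slS p)⁻¹) * slU p ∈ Y :=
    mul_mem (mul_mem hu (hY.conj_mem _ hu _)) hu
  have e : slU p * (slS p * slU p * (slS p)⁻¹) * slU p = slS p := by
    ext i j
    fin_cases i <;> fin_cases j <;>
      simp [Matrix.mul_apply, Fin.sum_univ_two, Matrix.adjugate_fin_two]
  have e2 : slS p * slS p = slZ p := by
    ext i j
    fin_cases i <;> fin_cases j <;> simp [Matrix.mul_apply, Fin.sum_univ_two]
  have h3 := odd_orderOf_of_mem hodd (e2 ▸ mul_mem (e ▸ h1) (e ▸ h1) : slZ p ∈ Y)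
  rw [orderOf_slZ hp2] at h3
  exact absurd h3 (by decide)

variable {G : Type u} [Group G] [Finite G]

/-- A power of `x` with a power of `n` as exponent generates the same subgroup when coprime. -/
theorem exists_pow_pow_eq {H : Type*} [Group H] {x : H} {n : ℕ} (h : n.Coprime (orderOf x)) :
    ∃ m : ℕ, (x ^ n) ^ m = x := exists_pow_eq_self_of_coprime h

theorem exists_p_lift {K : Subgroup G} (f : K →* SL(2, ZMod p)) (hf : Function.Surjective f) :
    ∃ c : K, (∃ k : ℕ, orderOf c = p ^ k) ∧ ∃ a : ℕ, f c = slU p ^ a ∧ a.Coprime p := by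
  obtain ⟨h, hh⟩ := hf (slU p)
  have hpos : orderOf h ≠ 0 := (orderOf_pos h).ne'
  set e := (orderOf h).factorization p with he
  set a := orderOf h / p ^ e with ha
  refine ⟨h ^ a, ⟨e, ?_⟩, a, by rw [map_pow, hh], (Nat.coprime_ordCompl hp.out hpos).symm⟩
  rw [orderOf_pow_of_dvd (Nat.div_pos (Nat.ordProj_le p hpos) (pow_pos hp.out.pos _)).ne'
    (Nat.ordCompl_dvd _ _), Nat.div_div_self (Nat.ordProj_dvd _ _) hpos]

theorem slU_mem_of_pow_mem {Y : Subgroup SL(2, ZMod p)} {a : ℕ} (ha : a.Coprime p)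
    (h : slU p ^ a ∈ Y) : slU p ∈ Y := by
  obtain ⟨m, hm⟩ := exists_pow_pow_eq (x := slU p) (n := a) (by rwa [orderOf_slU])
  rw [← hm]
  exact pow_mem h m

/-- The 2-part of an element. -/
theorem exists_two_part {K : Type*} [Group K] [Finite K] (y : K) :
    ∃ m : ℕ, Odd m ∧ ∃ k : ℕ, orderOf (y ^ m) = 2 ^ k := by
  have hpos : orderOf y ≠ 0 := (orderOf_pos y).ne'
  set e := (orderOf y).factorization 2 with he
  refine ⟨orderOf y / 2 ^ e, Nat.coprime_two_left.1 (Nat.coprime_ordCompl Nat.prime_two hpos), e, ?_⟩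
  rw [orderOf_pow_of_dvd ((Nat.div_pos (Nat.ordProj_le 2 hpos) (pow_pos Nat.two_pos _)).ne')
    (Nat.ordCompl_dvd _ _), Nat.div_div_self (Nat.ordProj_dvd _ _) hpos]

namespace Hyp

variable {M W : Subgroup G}

theorem conjugate (h : Hyp M W) (g : G) :
    Hyp (M.comap (MulAut.conj g).toMonoidHom) (W.comap (MulAut.conj g).toMonoidHom) := by
  set φ := (MulAut.conj g).toMonoidHom with hφ
  have hinj : Function.Injective φ := (MulAut.conj g).injective
  have hsurj : Function.Surjective φ := (MulAut.conj g).surjective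
  have hord : ∀ x, orderOf (φ x) = orderOf x := fun x => orderOf_injective φ hinj x
  have hcard : ∀ H : Subgroup G, Nat.card (H.comap φ) = Nat.card H := fun H => by
    rw [Nat.card_congr (Subgroup.equivMapOfInjective (H.comap φ) φ hinj).toEquiv,
      map_comap_eq_self_of_surjective hsurj]
  refine ⟨StronglyEmbedded.of_conj (fun e => h.se.1 ?_) (by rw [hcard]; exact h.se.2.1) ?_,
    comap_mono h.le, ?_, by rw [hcard]; exact h.odd, ?_, ?_⟩
  · rw [← map_comap_eq_self_of_surjective hsurj M, e, map_top_of_surjective φ hsurj]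
  · intro t ht ht2 x hx
    refine StronglyEmbedded.mem_of_conj h.se (t := φ t) (g := φ x) ht ((hord t).trans ht2) ?_
    rw [← map_inv, ← map_mul, ← map_mul]
    exact hx
  · intro m hm
    rw [mem_normalizer_iff]
    intro x
    simp only [mem_comap, map_mul, map_inv]
    exact mem_normalizer_iff.1 (h.normal hm) (φ x)
  · intro t ht ht2 y hy hodd hc
    exact h.cent (φ t) ht ((hord t).trans ht2) (φ y) hy ((hord y).symm ▸ hodd) (hc.map φ)
  · intro a ha b hb ⟨k, hk⟩ ⟨l, hl⟩
    obtain ⟨j, hj⟩ := h.closed (φ a) ha (φ b) hb ⟨k, by rw [← map_pow]; exact hk⟩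
      ⟨l, by rw [← map_pow]; exact hl⟩
    exact ⟨j, show φ _ ∈ W by rw [map_pow, map_mul]; exact hj⟩

/-- Inside `M` no subgroup maps onto `SL(2,p)`. -/
theorem no_sl_le (h : Hyp M W) (hp2 : p ≠ 2) {K : Subgroup G} (hK : K ≤ M) (f : K →* SL(2, ZMod p))
    (hf : Function.Surjective f) : False := by
  set U := W.subgroupOf K with hU
  haveI hUn : U.Normal := ⟨fun n hn g => h.conjW_mem (hK g.2) hn⟩
  have hUodd : Odd (Nat.card U) := by
    have h1 : Nat.card U ∣ Nat.card W := by
      rw [hU, ← inf_subgroupOf_right, Nat.card_congr (subgroupOfEquivOfLe inf_le_right).toEquiv]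
      exact card_dvd_of_le inf_le_left
    exact h.odd.of_dvd_nat h1
  set Y := U.map f with hYdef
  haveI hYn : Y.Normal := hUn.map f hf
  have hYodd : Odd (Nat.card Y) := hUodd.of_dvd_nat (card_map_dvd _ _)
  have hu := slU_notMem hp2 Y hYn hYodd
  obtain ⟨c, ⟨ec, hec⟩, a, hca, hacop⟩ := exists_p_lift f hf
  have hcU : c ∉ U := fun hc => hu (slU_mem_of_pow_mem hacop (hca ▸ mem_map_of_mem f hc))
  have hZY : slZ p ∉ Y := fun hz => by
    have := odd_orderOf_of_mem hYodd hz
    rw [orderOf_slZ hp2] at this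
    exact absurd this (by decide)
  haveI : Fact (Nat.Prime 2) := ⟨Nat.prime_two⟩
  -- the 2-elements of `K / U` form a subgroup
  let T : Subgroup (K ⧸ U) :=
    { carrier := {x | ∃ k : ℕ, x ^ (2 ^ k) = 1}
      one_mem' := ⟨0, one_pow _⟩
      inv_mem' := by
        rintro x ⟨k, hk⟩
        exact ⟨k, by rw [inv_pow, hk, inv_one]⟩
      mul_mem' := by
        intro x y hx hy
        obtain ⟨x, rfl⟩ := QuotientGroup.mk_surjective x
        obtain ⟨y, rfl⟩ := QuotientGroup.mk_surjective y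
        have conv : ∀ (z : K) (k : ℕ), ((z : K ⧸ U)) ^ (2 ^ k) = 1 ↔ (z : G) ^ (2 ^ k) ∈ W := by
          intro z k
          rw [← QuotientGroup.mk_pow, QuotientGroup.eq_one_iff, hU, mem_subgroupOf]
          simp
        obtain ⟨k, hk⟩ := hx
        obtain ⟨l, hl⟩ := hy
        obtain ⟨j, hj⟩ := h.closed x (hK x.2) y (hK y.2) ⟨k, (conv x k).1 hk⟩ ⟨l, (conv y l).1 hl⟩
        exact ⟨j, (conv (x * y) j).2 hj⟩ }
  have hT : IsPGroup 2 T := fun x => by
    obtain ⟨k, hk⟩ := x.2
    exact ⟨k, Subtype.ext (by simpa using hk)⟩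
  let fbar : K ⧸ U →* SL(2, ZMod p) ⧸ Y := QuotientGroup.map U Y f (le_comap_map f U)
  set z' : SL(2, ZMod p) ⧸ Y := QuotientGroup.mk (slZ p) with hz'
  -- a 2-element over `-1`
  obtain ⟨y0, hy0⟩ := hf (slZ p)
  obtain ⟨m0, hm0, k0, hk0⟩ := exists_two_part y0
  set x0 : K ⧸ U := QuotientGroup.mk (y0 ^ m0)
  have hx0T : x0 ∈ T := ⟨k0, by
    show ((y0 ^ m0 : K) : K ⧸ U) ^ (2 ^ k0) = 1
    rw [← QuotientGroup.mk_pow, ← hk0, pow_orderOf_eq_one, QuotientGroup.mk_one]⟩
  have hzodd : slZ p ^ m0 = slZ p := by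
    obtain ⟨j, rfl⟩ := hm0
    rw [pow_succ, pow_mul, pow_two, Basic.inv_sq_one (orderOf_slZ hp2), one_pow, one_mul]
  have hx0 : fbar x0 = z' := by
    show fbar (QuotientGroup.mk (y0 ^ m0)) = _
    rw [QuotientGroup.map_mk, map_pow, hy0, hzodd]
  -- `c` acts on them
  set cb : K ⧸ U := QuotientGroup.mk c
  set Q := zpowers cb
  have hQ : IsPGroup p Q := by
    have hd : orderOf cb ∣ p ^ ec := hec ▸ orderOf_map_dvd (QuotientGroup.mk' U) c
    obtain ⟨l, -, hl⟩ := (Nat.dvd_prime_pow hp.out).1 hd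
    exact IsPGroup.of_card (n := l) (by rw [Nat.card_zpowers, hl])
  set Z := {x : K ⧸ U // x ∈ T ∧ fbar x = z'}
  have hTn : ∀ g x : K ⧸ U, x ∈ T → g * x * g⁻¹ ∈ T := by
    rintro g x ⟨k, hk⟩
    exact ⟨k, by rw [conj_pow, hk, mul_one, mul_inv_cancel]⟩
  have hzc : ∀ q : SL(2, ZMod p) ⧸ Y, q * z' * q⁻¹ = z' := fun q => by
    obtain ⟨q, rfl⟩ := QuotientGroup.mk_surjective q
    rw [hz', ← QuotientGroup.mk_inv, ← QuotientGroup.mk_mul, ← QuotientGroup.mk_mul,
      (commute_slZ q).eq, mul_inv_cancel_right]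
  letI : MulAction Q Z :=
    { smul := fun g x => ⟨(g : K ⧸ U) * x.1 * (g : K ⧸ U)⁻¹, hTn _ _ x.2.1, by
        rw [map_mul, map_mul, map_inv, x.2.2, hzc]⟩
      one_smul := fun x => Subtype.ext (by show ((1 : Q) : K ⧸ U) * x.1 * _ = _; simp)
      mul_smul := fun g g' x => Subtype.ext (by
        show ((g * g' : Q) : K ⧸ U) * x.1 * _ =
          (g : K ⧸ U) * ((g' : K ⧸ U) * x.1 * (g' : K ⧸ U)⁻¹) * (g : K ⧸ U)⁻¹
        simp [mul_assoc]) }
  have hZcard : Nat.card Z = Nat.card (fbar.comp T.subtype).ker := by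
    refine Nat.card_congr
      { toFun := fun x => ⟨⟨x.1 * x0⁻¹, mul_mem x.2.1 (inv_mem hx0T)⟩, by
          show fbar (x.1 * x0⁻¹) = 1
          rw [map_mul, map_inv, x.2.2, hx0, mul_inv_cancel]⟩
        invFun := fun x => ⟨(x.1 : K ⧸ U) * x0, mul_mem x.1.2 hx0T, by
          rw [map_mul, show fbar (x.1 : K ⧸ U) = 1 from x.2, one_mul, hx0]⟩
        left_inv := fun x => Subtype.ext (inv_mul_cancel_right _ _)
        right_inv := fun x => Subtype.ext (Subtype.ext (mul_inv_cancel_right _ _)) }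
  have hndvd : ¬ p ∣ Nat.card Z := by
    rw [hZcard]
    obtain ⟨n, hn⟩ := IsPGroup.iff_card.1 (hT.to_subgroup (fbar.comp T.subtype).ker)
    rw [hn]
    intro hd
    exact hp2 ((Nat.prime_dvd_prime_iff_eq hp.out Nat.prime_two).1 (hp.out.dvd_of_dvd_pow hd))
  obtain ⟨r, hr⟩ := hQ.nonempty_fixed_point_of_prime_not_dvd_card Z hndvd
  have hrc : Commute cb r.1 := by
    have h1 := congrArg Subtype.val (hr ⟨cb, mem_zpowers cb⟩)
    change cb * r.1 * cb⁻¹ = r.1 at h1
    exact (mul_inv_eq_iff_eq_mul.1 h1)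
  have hr1 : r.1 ≠ 1 := fun e => hZY (by
    have h1 := r.2.2
    rw [e, map_one, hz'] at h1
    exact (QuotientGroup.eq_one_iff _).1 h1.symm)
  -- its power of order two
  obtain ⟨k, hk⟩ := IsPGroup.iff_orderOf.1 hT ⟨r.1, r.2.1⟩
  rw [Subgroup.orderOf_mk] at hk
  rcases k with _ | k
  · exact hr1 (orderOf_eq_one_iff.1 hk)
  have hi : orderOf (r.1 ^ 2 ^ k) = 2 := by
    rw [orderOf_pow' _ (by positivity), hk, Nat.gcd_eq_right (pow_dvd_pow 2 (Nat.le_succ k)),
      pow_succ, Nat.mul_div_cancel_left _ (by positivity)]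
  obtain ⟨y, hy⟩ := QuotientGroup.mk_surjective (r.1 ^ 2 ^ k)
  obtain ⟨m, hm, j, hj⟩ := exists_two_part y
  set t := y ^ m with htdef
  have htmk : (t : K ⧸ U) = r.1 ^ 2 ^ k := by
    obtain ⟨i, rfl⟩ := hm
    rw [htdef, QuotientGroup.mk_pow, hy, pow_succ, pow_mul _ 2, pow_two,
      Basic.inv_sq_one hi, one_pow, one_mul]
  have ht1 : t ∉ U := fun ht => Basic.ne_one hi (by rw [← htmk]; exact (QuotientGroup.eq_one_iff _).2 ht)
  have ht2 : t * t = 1 := by
    have h1 : t * t ∈ U := by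
      rw [← QuotientGroup.eq_one_iff, QuotientGroup.mk_mul, htmk]
      exact Basic.inv_sq_one hi
    have h2 : Odd (orderOf (t * t)) := odd_orderOf_of_mem hUodd h1
    have h3 : orderOf (t * t) ∣ 2 ^ j := by
      rw [← hj, ← pow_two]; exact orderOf_pow_dvd 2
    obtain ⟨i, -, hi'⟩ := (Nat.dvd_prime_pow Nat.prime_two).1 h3
    rcases i with _ | i
    · exact orderOf_eq_one_iff.1 hi'
    · rw [hi', pow_succ] at h2
      exact absurd (even_two.mul_left (2 ^ i)) (Nat.not_even_iff_odd.2 h2)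
  have htG : orderOf (t : G) = 2 := by
    rw [Subgroup.orderOf_coe, Basic.orderOf_two_iff]
    exact ⟨ht2, fun e => ht1 (by rw [e]; exact one_mem U)⟩
  refine hcU (h.mem_of_comm_mem (hK t.2) htG (hK c.2) ?_ ?_)
  · show Odd (orderOf (c : G))
    rw [Subgroup.orderOf_coe, hec]
    exact (hp.out.odd_of_ne_two hp2).pow
  · have hct : Commute cb (t : K ⧸ U) := by
      rw [htmk]; exact hrc.pow_right _
    have h1 : c⁻¹ * t * c * t ∈ U := by
      rw [← QuotientGroup.eq_one_iff, QuotientGroup.mk_mul, QuotientGroup.mk_mul, QuotientGroup.mk_mul,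
        QuotientGroup.mk_inv, mul_assoc (cb⁻¹) _ cb, ← hct.eq, inv_mul_cancel_left, htmk]
      exact Basic.inv_sq_one hi
    exact h1

/-- No subgroup maps onto `SL(2,p)`. -/
theorem no_sl (h : Hyp M W) (hp2 : p ≠ 2) : ∀ n : ℕ, ∀ K : Subgroup G, Nat.card K = n →
    ∀ f : K →* SL(2, ZMod p), Function.Surjective f → False := by
  haveI : Fact (Nat.Prime 2) := ⟨Nat.prime_two⟩
  intro n
  induction n using Nat.strong_induction_on with
  | _ n ih =>
  intro K hn f hf
  by_cases hker : Odd (Nat.card f.ker)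
  · -- a lift of `-1` of order two
    obtain ⟨y, hy⟩ := hf (slZ p)
    obtain ⟨m, hm, j, hj⟩ := exists_two_part y
    set i := y ^ m with hidef
    have hfi : f i = slZ p := by
      obtain ⟨l, rfl⟩ := hm
      rw [hidef, map_pow, hy, pow_succ, pow_mul, pow_two, Basic.inv_sq_one (orderOf_slZ hp2),
        one_pow, one_mul]
    have hzz := Basic.inv_sq_one (orderOf_slZ (p := p) hp2)
    have hi2 : orderOf i = 2 := by
      rw [Basic.orderOf_two_iff]
      refine ⟨?_, fun e => Basic.ne_one (orderOf_slZ (p := p) hp2) (by rw [← hfi, e, map_one])⟩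
      have h2 : Odd (orderOf (i * i)) :=
        odd_orderOf_of_mem hker (MonoidHom.mem_ker.2 (by rw [map_mul, hfi, hzz]))
      have h3 : orderOf (i * i) ∣ 2 ^ j := by
        rw [← hj, ← pow_two]; exact orderOf_pow_dvd 2
      obtain ⟨l, -, hl⟩ := (Nat.dvd_prime_pow Nat.prime_two).1 h3
      rcases l with _ | l
      · exact orderOf_eq_one_iff.1 hl
      · rw [hl, pow_succ] at h2
        exact absurd (even_two.mul_left (2 ^ l)) (Nat.not_even_iff_odd.2 h2)
    -- its centraliser maps onto `SL(2,p)`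
    set C := centralizer ({i} : Set K) with hC
    have hsur : ∀ q, ∃ d ∈ C, f d = q := by
      intro q
      obtain ⟨g, rfl⟩ := hf q
      have hgi : orderOf (g * i * g⁻¹) = 2 := (Basic.orderOf_conj g i).trans hi2
      have hk : g * i * g⁻¹ * i ∈ f.ker := by
        rw [MonoidHom.mem_ker, map_mul, map_mul, map_mul, map_inv, hfi, (commute_slZ (f g)).eq,
          mul_inv_cancel_right, hzz]
      obtain ⟨d, hd, hde⟩ := Basic.exists_conj_of_odd hgi hi2 (odd_orderOf_of_mem hker hk)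
      refine ⟨d * g, mem_centralizer_singleton_iff.2 ?_, ?_⟩
      · conv_rhs => rw [← hde]
        group
      · rw [map_mul, MonoidHom.mem_ker.1 (zpowers_le.2 hk hd), one_mul]
    -- the odd elements of the centraliser lie in one conjugate of `W`
    obtain ⟨g, hg⟩ := h.exists_point (t := (i : G)) ((Subgroup.orderOf_coe i).trans hi2)
    let φ : C →* G := (MulAut.conj g⁻¹).toMonoidHom.comp (K.subtype.comp C.subtype)
    have hφ : ∀ x : C, φ x = g⁻¹ * ((x : K) : G) * g := fun x => by simp [φ]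
    have hordC : ∀ x : C, orderOf (φ x) = orderOf x := fun x => orderOf_injective φ
      ((MulAut.conj g⁻¹).injective.comp (K.subtype_injective.comp C.subtype_injective)) x
    have hφM : ∀ x : C, φ x ∈ M := fun x => by
      rw [hφ]
      refine StronglyEmbedded.mem_of_commute h.se hg ?_ (conj_commute g ?_)
      · simpa using (Basic.orderOf_conj g⁻¹ (i : G)).trans ((Subgroup.orderOf_coe i).trans hi2)
      · exact congrArg Subtype.val (mem_centralizer_singleton_iff.1 x.2)
    set O := W.comap φ with hO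
    haveI hOn : O.Normal := ⟨fun x hx q => by
      show φ (q * x * q⁻¹) ∈ W
      rw [map_mul, map_mul, map_inv]
      exact h.conjW_mem (hφM q) hx⟩
    have hOodd : Odd (Nat.card O) := h.odd.of_dvd_nat
      (Subgroup.card_dvd_of_injective (φ.subgroupComap W) fun x y e => by
        have := congrArg Subtype.val e
        apply Subtype.ext
        exact ((MulAut.conj g⁻¹).injective.comp (K.subtype_injective.comp C.subtype_injective)) this)
    let fC : C →* SL(2, ZMod p) := f.comp C.subtype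
    have hfC : Function.Surjective fC := fun q => by
      obtain ⟨d, hd, e⟩ := hsur q
      exact ⟨⟨d, hd⟩, e⟩
    haveI hYn : (O.map fC).Normal := hOn.map fC hfC
    have hYodd : Odd (Nat.card (O.map fC)) := hOodd.of_dvd_nat (card_map_dvd _ _)
    apply slU_notMem hp2 _ hYn hYodd
    obtain ⟨x, hx⟩ := hfC (slU p)
    obtain ⟨e, he⟩ : ∃ e : ℕ, Odd (orderOf (x ^ 2 ^ e)) := by
      have hpos : orderOf x ≠ 0 := (orderOf_pos x).ne'
      refine ⟨(orderOf x).factorization 2, ?_⟩
      rw [orderOf_pow_of_dvd (pow_ne_zero _ two_ne_zero) (Nat.ordProj_dvd _ _)]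
      exact Nat.coprime_two_left.1 (Nat.coprime_ordCompl Nat.prime_two hpos)
    have hmem : x ^ 2 ^ e ∈ O := by
      show φ (x ^ 2 ^ e) ∈ W
      refine h.cent (g⁻¹ * (i : G) * g) hg
        (by simpa using (Basic.orderOf_conj g⁻¹ (i : G)).trans ((Subgroup.orderOf_coe i).trans hi2))
        _ (hφM _) ((hordC _).symm ▸ he) ?_
      rw [hφ]
      exact conj_commute g (congrArg Subtype.val (mem_centralizer_singleton_iff.1 (x ^ 2 ^ e).2))
    refine slU_mem_of_pow_mem (a := 2 ^ e)
      ((Nat.coprime_two_left.2 (hp.out.odd_of_ne_two hp2)).pow_left e) ?_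
    exact ⟨x ^ 2 ^ e, hmem, by rw [map_pow, hx]⟩
  · -- the Sylow 2-subgroup of the kernel fixes a point
    rw [Nat.not_odd_iff_even, even_iff_two_dvd] at hker
    obtain ⟨T⟩ := (inferInstance : Nonempty (Sylow 2 f.ker))
    set T0 := (T : Subgroup f.ker).map f.ker.subtype with hT0
    set N := normalizer (T0 : Set K) with hN
    have hfr : N ⊔ f.ker = ⊤ := T.normalizer_sup_eq_top
    by_cases hNtop : N = ⊤
    · obtain ⟨x, hxT, hx⟩ : ∃ x ∈ T0, orderOf x = 2 ∧ ∀ s ∈ T0, Commute x s := by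
        haveI : Nontrivial (T : Subgroup f.ker) := by
          rw [nontrivial_iff_ne_bot]
          exact T.ne_bot_of_dvd_card hker
        haveI := IsPGroup.center_nontrivial (T.2 : IsPGroup 2 (T : Subgroup f.ker))
        obtain ⟨nn, hnn⟩ := IsPGroup.iff_card.1 (T.2.to_subgroup (center (T : Subgroup f.ker)))
        have hnn0 : nn ≠ 0 := fun e => by
          rw [e, pow_zero] at hnn
          exact (Finite.one_lt_card (α := center (T : Subgroup f.ker))).ne' hnn
        obtain ⟨z, hz⟩ := exists_prime_orderOf_dvd_card' (G := center (T : Subgroup f.ker)) 2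
          (hnn ▸ dvd_pow_self 2 hnn0)
        refine ⟨_, mem_map_of_mem _ (z : (T : Subgroup f.ker)).2, ?_, ?_⟩
        · rw [Subgroup.coe_subtype, Subgroup.orderOf_coe, Subgroup.orderOf_coe, Subgroup.orderOf_coe, hz]
        · rintro _ ⟨s, hs, rfl⟩
          exact congrArg (fun w : (T : Subgroup f.ker) => ((w : f.ker) : K))
            (mem_center_iff.1 z.2 ⟨s, hs⟩).symm
      obtain ⟨hx2, hxc⟩ := hx
      obtain ⟨g, hg⟩ := h.exists_point (t := (x : G)) ((Subgroup.orderOf_coe x).trans hx2)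
      have hxo : orderOf (g⁻¹ * (x : G) * g) = 2 := by
        simpa using (Basic.orderOf_conj g⁻¹ (x : G)).trans ((Subgroup.orderOf_coe x).trans hx2)
      refine no_sl_le (h.conjugate g⁻¹) hp2 (fun k hk => ?_) f hf
      show g⁻¹ * k * g⁻¹⁻¹ ∈ M
      rw [inv_inv]
      have hkN : (⟨k, hk⟩ : K) ∈ N := hNtop ▸ mem_top _
      have hconj := (mem_normalizer_iff.1 hkN x).1 hxT
      have hcom : Commute (((⟨k, hk⟩ : K) * x * (⟨k, hk⟩ : K)⁻¹ : K) : G) (x : G) :=
        (congrArg Subtype.val (hxc _ hconj)).symm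
      have h1 := StronglyEmbedded.mem_of_commute h.se hg hxo (conj_commute g hcom)
      refine StronglyEmbedded.mem_of_conj h.se hg hxo (g := g⁻¹ * k * g) ?_
      rw [show g⁻¹ * k * g * (g⁻¹ * (x : G) * g) * (g⁻¹ * k * g)⁻¹ =
        g⁻¹ * (k * (x : G) * k⁻¹) * g by group]
      simpa using h1
    · -- smaller
      have hlt : Nat.card N < n := by
        rw [← hn]
        exact lt_of_le_of_ne (card_le_card_group N) fun e => hNtop (eq_top_of_card_eq N e)
      let f' : N.map K.subtype →* SL(2, ZMod p) :=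
        (f.comp N.subtype).comp (N.equivMapOfInjective _ K.subtype_injective).symm.toMonoidHom
      refine ih _ hlt (N.map K.subtype)
        (Nat.card_congr (N.equivMapOfInjective _ K.subtype_injective).toEquiv).symm f' fun q => ?_
      obtain ⟨g, rfl⟩ := hf q
      have hg : g ∈ (N ⊔ f.ker : Subgroup K) := by rw [hfr]; exact mem_top g
      rw [mem_sup_of_normal_right] at hg
      obtain ⟨a, ha, b, hb, rfl⟩ := hg
      refine ⟨N.equivMapOfInjective _ K.subtype_injective ⟨a, ha⟩, ?_⟩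
      show f ((N.equivMapOfInjective _ K.subtype_injective).symm
        (N.equivMapOfInjective _ K.subtype_injective ⟨a, ha⟩) : K) = _
      rw [MulEquiv.symm_apply_apply, map_mul, MonoidHom.mem_ker.1 hb, mul_one]

/-- The group has no section isomorphic to `SL(2,p)`. -/
theorem not_involves_sl (h : Hyp M W) (hp2 : p ≠ 2) : ¬ Cfsg.Involves SL(2, ZMod p) G := by
  rintro ⟨K, R, hR, ⟨e⟩⟩
  exact h.no_sl hp2 _ K rfl (e.toMonoidHom.comp (QuotientGroup.mk' _))
    (e.surjective.comp (QuotientGroup.mk'_surjective _))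

end Hyp

end Cfsg.Agent.SECore
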